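import Mathlib
import Cfsg.Agent.Lib.Helper16.BRStmt
import Cfsg.Agent.Lib.CT.ClassMult

/-!
Piece [CZ] of S0999/S4701 (helper16's split): the centralizer of the involution `y ^ (e / 2)`
has order `e t`, and the characters of `A` take values `± t` on it.
Also: shared tools for the class-multiplication pieces (`sum_split`, `pair_count`).
-/

set_option autoImplicit false

namespace Cfsg.Agent.Lib.Helper96.BRCZ

open Cfsg Cfsg.Agent.Lib.CT.ThirdMain Cfsg.Agent.Lib.Helper16.BRSpec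
open scoped ComplexConjugate

universe u
variable {G : Type u} [Group G]

/-- splitting a sum over all irreducible characters along `{1} ⊔ A ⊔ B ⊔ Y ⊔ Z` -/
theorem sum_split [Fintype (IrrCharacter G)] (A B Y : Set (IrrCharacter G))
    (htA : triv G ∉ A) (htB : triv G ∉ B) (htY : triv G ∉ Y) (hAB : Disjoint A B)
    (hAY : Disjoint A Y) (hBY : Disjoint B Y) (F : IrrCharacter G → ℂ) :
    ∑ χ : IrrCharacter G, F χ = F (triv G) + ∑ χ ∈ (Set.toFinite A).toFinset, F χ +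
      ∑ χ ∈ (Set.toFinite B).toFinset, F χ + ∑ χ ∈ (Set.toFinite Y).toFinset, F χ +
      ∑ χ ∈ (Set.toFinite (Zset A B Y)).toFinset, F χ := by
  have huniv : (Set.univ : Set (IrrCharacter G)) =
      ((({triv G} ∪ A) ∪ B) ∪ Y) ∪ Zset A B Y := by
    ext χ
    simp only [Set.mem_univ, Set.mem_union, Set.mem_singleton_iff, Zset, Set.mem_ofPred_eq,
      true_iff]
    tauto
  have d1 : Disjoint ((({triv G} ∪ A) ∪ B) ∪ Y) (Zset A B Y) := by
    rw [Set.disjoint_left]
    intro χ h1 h2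
    simp only [Set.mem_union, Set.mem_singleton_iff, Zset, Set.mem_ofPred_eq] at h1 h2
    tauto
  have d2 : Disjoint (({triv G} ∪ A) ∪ B) Y := by
    rw [Set.disjoint_left]
    rintro χ ((h | h) | h) h2
    · rw [Set.mem_singleton_iff] at h
      exact htY (h ▸ h2)
    · exact Set.disjoint_left.mp hAY h h2
    · exact Set.disjoint_left.mp hBY h h2
  have d3 : Disjoint ({triv G} ∪ A) B := by
    rw [Set.disjoint_left]
    rintro χ (h | h) h2
    · rw [Set.mem_singleton_iff] at h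
      exact htB (h ▸ h2)
    · exact Set.disjoint_left.mp hAB h h2
  have d4 : Disjoint ({triv G} : Set (IrrCharacter G)) A := by
    rw [Set.disjoint_singleton_left]
    exact htA
  rw [← finsum_eq_sum_of_fintype, ← finsum_mem_univ, huniv,
    finsum_mem_union d1 (Set.toFinite _) (Set.toFinite _),
    finsum_mem_union d2 (Set.toFinite _) (Set.toFinite _),
    finsum_mem_union d3 (Set.toFinite _) (Set.toFinite _),
    finsum_mem_union d4 (Set.toFinite _) (Set.toFinite _), finsum_mem_singleton,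
    finsum_mem_eq_finite_toFinset_sum _ (Set.toFinite A),
    finsum_mem_eq_finite_toFinset_sum _ (Set.toFinite B),
    finsum_mem_eq_finite_toFinset_sum _ (Set.toFinite Y),
    finsum_mem_eq_finite_toFinset_sum _ (Set.toFinite (Zset A B Y))]

/-- the number of pairs `(g, h)` with `g w g⁻¹ * h w h⁻¹ = z`, fibred over `g` -/
theorem pair_card [Fintype G] [DecidableEq G] (w z : G) :
    (Finset.univ.filter fun pr : G × G => pr.1 * w * pr.1⁻¹ * (pr.2 * w * pr.2⁻¹) = z).card =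
      ∑ g : G, (Finset.univ.filter fun h : G => g * w * g⁻¹ * (h * w * h⁻¹) = z).card := by
  rw [Finset.card_filter, Fintype.sum_prod_type]
  refine Finset.sum_congr rfl fun g _ => ?_
  rw [Finset.card_filter]

/-- the pairs `(g, h)` with `g w g⁻¹ * h w h⁻¹ = z ∈ P \ {1}` for the involution
`w = y ^ (e / 2)` inverting `P`: there are `p |C(w)|²` of them -/
theorem pair_count [Fintype G] [DecidableEq G] (p : ℕ) [Fact p.Prime] (hpodd : Odd p)
    (P : Subgroup G) (hP : Nat.card P = p) (e : ℕ) (y : G) (hyo : orderOf y = e) (he : Even e)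
    (he0 : 0 < e)
    (hcov : ∀ g ∈ Subgroup.normalizer (P : Set G), ∃ x ∈ P, ∃ j, j < e ∧ g = x * y ^ j)
    (hconj : ∀ x ∈ P, ∀ j, 0 < j → j < e → IsConj (x * y ^ j) (y ^ j))
    (hyP : ∀ j, 0 < j → j < e → y ^ j ∉ P)
    (hinv : ∀ x ∈ P, y ^ (e / 2) * x * (y ^ (e / 2))⁻¹ = x⁻¹)
    (z : G) (hz : z ∈ P) (hz1 : z ≠ 1) :
    (Finset.univ.filter fun pr : G × G =>
        pr.1 * y ^ (e / 2) * pr.1⁻¹ * (pr.2 * y ^ (e / 2) * pr.2⁻¹) = z).card =
      p * Nat.card (Subgroup.centralizer ({y ^ (e / 2)} : Set G)) *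
        Nat.card (Subgroup.centralizer ({y ^ (e / 2)} : Set G)) := by
  classical
  have he2 : 2 * (e / 2) = e := Nat.two_mul_div_two_of_even he
  have hm0 : 0 < e / 2 := by omega
  have hme : e / 2 < e := by omega
  have hwdef : ∃ w : G, w = y ^ (e / 2) := ⟨_, rfl⟩
  obtain ⟨w, hw⟩ := hwdef
  rw [← hw] at hinv ⊢
  have hww : w * w = 1 := by
    rw [hw, ← pow_add, ← two_mul, he2, ← hyo, pow_orderOf_eq_one]
  have hwinv : w⁻¹ = w := inv_eq_of_mul_eq_one_left hww
  have hwP : w ∉ P := by rw [hw]; exact hyP _ hm0 hme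
  have hw1 : w ≠ 1 := fun h => hwP (h ▸ P.one_mem)
  have L3 : ∀ x ∈ P, IsConj w (x * w) := by
    intro x hx
    rw [hw]
    exact (hconj x hx _ hm0 hme).symm
  have L2 : ∀ u : G, u * w⁻¹ ∈ P → IsConj w (u⁻¹ * z) := by
    intro u hu
    have hxz : (u * w⁻¹)⁻¹ * z ∈ P := P.mul_mem (P.inv_mem hu) hz
    have h1 := hinv _ hxz
    have h2 : u⁻¹ * z = ((u * w⁻¹)⁻¹ * z)⁻¹ * w := by
      calc u⁻¹ * z = (w * w) * (u⁻¹ * z) := by rw [hww, one_mul]
        _ = w * ((u * w⁻¹)⁻¹ * z) * w⁻¹ * w := by group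
        _ = ((u * w⁻¹)⁻¹ * z)⁻¹ * w := by rw [h1]
    rw [h2]
    exact L3 _ (P.inv_mem hxz)
  have hgen : ∀ n ∈ P, ∃ k : ℤ, n = z ^ k := by
    intro n hn
    have hne : (⟨z, hz⟩ : ↥P) ≠ 1 := fun h => hz1 (congrArg Subtype.val h)
    have hmem : (⟨n, hn⟩ : ↥P) ∈ Subgroup.zpowers (⟨z, hz⟩ : ↥P) :=
      mem_zpowers_of_prime_card hP hne
    obtain ⟨k, hk⟩ := Subgroup.mem_zpowers_iff.1 hmem
    refine ⟨k, ?_⟩
    have := congrArg Subtype.val hk
    rw [Subgroup.coe_zpow] at this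
    exact this.symm
  have L1 : ∀ g h : G, g * w * g⁻¹ * (h * w * h⁻¹) = z → g * w * g⁻¹ * w⁻¹ ∈ P := by
    intro g h hgh
    obtain ⟨u, hu⟩ : ∃ u : G, u = g * w * g⁻¹ := ⟨_, rfl⟩
    obtain ⟨u', hu'⟩ : ∃ u' : G, u' = h * w * h⁻¹ := ⟨_, rfl⟩
    rw [← hu, ← hu'] at hgh
    rw [← hu]
    have huu : u * u = 1 := by
      rw [hu]
      calc g * w * g⁻¹ * (g * w * g⁻¹) = g * (w * w) * g⁻¹ := by group
        _ = 1 := by rw [hww]; group
    have hu'u' : u' * u' = 1 := by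
      rw [hu']
      calc h * w * h⁻¹ * (h * w * h⁻¹) = h * (w * w) * h⁻¹ := by group
        _ = 1 := by rw [hww]; group
    have hu1 : u ≠ 1 := by
      intro h1
      apply hw1
      have h2 : w = g⁻¹ * (g * w * g⁻¹) * g := by group
      rw [h2, ← hu, h1]
      group
    have huinv : u⁻¹ = u := inv_eq_of_mul_eq_one_left huu
    have hu'inv : u'⁻¹ = u' := inv_eq_of_mul_eq_one_left hu'u'
    have hinvz : u * z * u⁻¹ = z⁻¹ := by
      rw [← hgh, huinv, mul_inv_rev, huinv, hu'inv]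
      calc u * (u * u') * u = (u * u) * u' * u := by group
        _ = u' * u := by rw [huu, one_mul]
    have hconjP : ∀ n ∈ P, u * n * u⁻¹ ∈ P := by
      intro n hn
      obtain ⟨k, rfl⟩ := hgen n hn
      have h3 : u * z ^ k * u⁻¹ = (u * z * u⁻¹) ^ k := by rw [conj_zpow]
      rw [h3, hinvz]
      exact P.zpow_mem (P.inv_mem hz) k
    have huN : u ∈ Subgroup.normalizer (P : Set G) := by
      rw [Subgroup.mem_normalizer_iff]
      intro n
      constructor
      · exact hconjP n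
      · intro hn
        have h3 := hconjP _ hn
        have h4 : u * (u * n * u⁻¹) * u⁻¹ = n := by
          rw [huinv]
          calc u * (u * n * u) * u = (u * u) * n * (u * u) := by group
            _ = n := by rw [huu]; group
        rw [← h4]
        exact h3
    obtain ⟨x, hx, j, hj, hxj⟩ := hcov u huN
    rcases Nat.eq_zero_or_pos j with hj0 | hj0
    · exfalso
      rw [hj0, pow_zero, mul_one] at hxj
      have hxp : x ^ p = 1 := by
        have h5 := pow_card_eq_one' (G := ↥P) (x := ⟨x, hx⟩)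
        rw [hP] at h5
        simpa using congrArg Subtype.val h5
      obtain ⟨k, hk⟩ := hpodd
      have hx2 : x * x = 1 := hxj ▸ huu
      have h6 : x = 1 := by
        have h4 : x ^ p = (x * x) ^ k * x := by rw [hk, pow_succ, pow_mul, pow_two]
        rw [h4, hx2, one_pow, one_mul] at hxp
        exact hxp
      exact hu1 (hxj.trans h6)
    · have hc := hconj x hx j hj0 hj
      rw [← hxj] at hc
      obtain ⟨c, hc⟩ := isConj_iff.mp hc
      have hyj : y ^ j * y ^ j = 1 := by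
        rw [← hc]
        calc c * u * c⁻¹ * (c * u * c⁻¹) = c * (u * u) * c⁻¹ := by group
          _ = 1 := by rw [huu]; group
      have hdvd : e ∣ 2 * j := by
        rw [← hyo]
        apply orderOf_dvd_of_pow_eq_one
        rw [two_mul, pow_add]
        exact hyj
      have hj2 : j = e / 2 := by
        obtain ⟨c', hc'⟩ := hdvd
        have h7 : c' = 1 := by
          have h8 : 0 < c' := by
            rcases Nat.eq_zero_or_pos c' with h | h
            · rw [h] at hc'; omega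
            · exact h
          have h9 : c' < 2 := by
            by_contra h10
            have : e * 2 ≤ e * c' := Nat.mul_le_mul_left e (by omega)
            omega
          omega
        rw [h7, mul_one] at hc'
        omega
      rw [hxj, hj2, ← hw, mul_inv_cancel_right]
      exact hx
  have hA : ∀ g : G, (Finset.univ.filter fun h : G => g * w * g⁻¹ * (h * w * h⁻¹) = z).card =
      if g * w * g⁻¹ * w⁻¹ ∈ P then Nat.card (Subgroup.centralizer ({w} : Set G)) else 0 := by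
    intro g
    split_ifs with hg
    · have h1 : (Finset.univ.filter fun h : G => g * w * g⁻¹ * (h * w * h⁻¹) = z) =
          Finset.univ.filter fun h : G => h * w * h⁻¹ = (g * w * g⁻¹)⁻¹ * z := by
        ext h
        simp only [Finset.mem_filter, Finset.mem_univ, true_and]
        exact ⟨fun hh => by rw [← hh]; group, fun hh => by rw [hh]; group⟩
      rw [h1, Cfsg.Agent.Lib.CT.Orth.card_conj_eq_of_isConj w _ (L2 _ hg)]
    · rw [Finset.card_eq_zero, Finset.filter_eq_empty_iff]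
      intro h _ hh
      exact hg (L1 g h hh)
  have hC : (Finset.univ.filter fun g : G => g * w * g⁻¹ * w⁻¹ ∈ P).card =
      p * Nat.card (Subgroup.centralizer ({w} : Set G)) := by
    have hmaps : ((Finset.univ.filter fun g : G => g * w * g⁻¹ * w⁻¹ ∈ P : Finset G) :
        Set G).MapsTo (fun g => g * w * g⁻¹ * w⁻¹)
        ((Finset.univ.filter fun x : G => x ∈ P : Finset G) : Set G) := by
      intro g hg
      simp only [Finset.coe_filter, Finset.mem_univ, true_and, Set.mem_ofPred_eq] at hg ⊢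
      exact hg
    rw [Finset.card_eq_sum_card_fiberwise hmaps]
    have hfib : ∀ x ∈ (Finset.univ.filter fun x : G => x ∈ P),
        ((Finset.univ.filter fun g : G => g * w * g⁻¹ * w⁻¹ ∈ P).filter
          fun g => g * w * g⁻¹ * w⁻¹ = x).card =
        Nat.card (Subgroup.centralizer ({w} : Set G)) := by
      intro x hx
      simp only [Finset.mem_filter, Finset.mem_univ, true_and] at hx
      have h1 : ((Finset.univ.filter fun g : G => g * w * g⁻¹ * w⁻¹ ∈ P).filter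
          fun g => g * w * g⁻¹ * w⁻¹ = x) =
          Finset.univ.filter fun g : G => g * w * g⁻¹ = x * w := by
        ext g
        simp only [Finset.mem_filter, Finset.mem_univ, true_and]
        constructor
        · rintro ⟨_, h⟩
          rw [← h]; group
        · intro h
          rw [h, mul_inv_cancel_right]
          exact ⟨hx, rfl⟩
      rw [h1, Cfsg.Agent.Lib.CT.Orth.card_conj_eq_of_isConj w _ (L3 x hx)]
    rw [Finset.sum_congr rfl hfib, Finset.sum_const, smul_eq_mul]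
    congr 1
    rw [← hP, ← Fintype.card_subtype]
    exact Nat.card_eq_fintype_card.symm
  rw [pair_card, Finset.sum_congr rfl (fun g _ => hA g), ← Finset.sum_filter, Finset.sum_const,
    smul_eq_mul, hC]

theorem main : Cfsg.Agent.Lib.Helper16.BRStmt.CzOfMs.{u} := by
  intro G _ _ p _ P e t n a b f A B Y hT y ω mult hR hM hinv
  classical
  haveI := Fintype.ofFinite G
  haveI := Cfsg.Agent.Lib.CT.Wedderburn.finite_irrCharacter G
  haveI := Fintype.ofFinite (IrrCharacter G)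
  have hp : p.Prime := Fact.out
  obtain ⟨hfe, hb, hea⟩ : f + e = p ∧ b = a * n + 1 ∧ e = a * t + 2 := by
    rcases hT.hcase with ⟨h, _⟩ | ⟨_, h⟩
    · exact absurd h (by norm_num)
    · exact h
  have he2 : 2 * (e / 2) = e := Nat.two_mul_div_two_of_even hM.heven
  have hepos : 0 < e := by have := hT.he; omega
  have hm0 : 0 < e / 2 := by omega
  have hme : e / 2 < e := by omega
  have hpodd : Odd p := by
    obtain ⟨m, hm⟩ := hM.heven
    exact ⟨m * t, by rw [hT.hpe, hm]; ring⟩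
  obtain ⟨z, hz, hz1⟩ : ∃ z ∈ (P : Subgroup G), z ≠ 1 := by
    by_contra hcon
    have h0 : (P : Subgroup G) = ⊥ := by
      rw [Subgroup.eq_bot_iff_forall]
      intro x hx
      by_contra hx1
      exact hcon ⟨x, hx, hx1⟩
    have h1 := hT.hP
    rw [h0, Subgroup.card_bot] at h1
    exact hp.one_lt.ne h1
  obtain ⟨w, hw⟩ : ∃ w : G, w = y ^ (e / 2) := ⟨_, rfl⟩
  obtain ⟨c0, hc0⟩ : ∃ c0 : ℕ, c0 = Nat.card (Subgroup.centralizer ({w} : Set G)) := ⟨_, rfl⟩
  rw [← hw] at hinv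
  have hcount : (Finset.univ.filter fun pr : G × G =>
        pr.1 * w * pr.1⁻¹ * (pr.2 * w * pr.2⁻¹) = z).card = p * c0 * c0 := by
    rw [hc0, hw]
    exact pair_count p hpodd (P : Subgroup G) hT.hP e y hR.hyo hM.heven hepos hR.hcov hR.hconj
      hR.hyP (by rw [← hw]; exact hinv) z hz hz1
  have hpc := Cfsg.Agent.Lib.CT.ClassMult.conj_pair_count w w z
  rw [hcount] at hpc
  -- character values at `w`
  have hω2 : ω ^ (e / 2) = -1 := by
    have h1 : IsPrimitiveRoot (ω ^ (e / 2)) 2 :=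
      hR.hω.pow hepos (by rw [mul_comm]; exact he2.symm)
    exact h1.eq_neg_one_of_two_right
  obtain ⟨kk, hkk⟩ : ∃ kk : IrrCharacter G → ℤ,
      ∀ χ, kk χ = ∑ i ∈ Finset.range e, (mult χ i : ℤ) * (-1) ^ i := ⟨_, fun _ => rfl⟩
  have hval : ∀ χ : IrrCharacter G, (χ : G → ℂ) w = ((kk χ : ℤ) : ℂ) := by
    intro χ
    rw [hw, hR.r3 χ (e / 2) hm0 hme, hkk]
    push_cast
    refine Finset.sum_congr rfl fun i _ => ?_
    rw [pow_mul', hω2]
  have hkB : ∀ χ ∈ B, kk χ = 0 := by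
    intro χ hχ
    rw [hkk]
    apply Finset.sum_eq_zero
    intro i hi
    rw [hM.mB χ hχ i (Finset.mem_range.mp hi)]
    simp
  have hkY : ∀ θ ∈ Y, (kk θ) ^ 2 = 1 := by
    intro θ hθ
    have h1 : kk θ = (-1) ^ (e / 2) := by
      rw [hkk, Finset.sum_eq_single (e / 2)]
      · rw [hM.mY θ hθ _ hme]
        simp
      · intro i hi hne
        rw [hM.mY θ hθ i (Finset.mem_range.mp hi), if_neg hne]
        simp
      · intro h
        exact absurd (Finset.mem_range.mpr hme) h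
    rw [h1, ← pow_mul, mul_comm, pow_mul]
    simp
  have hkA : ∀ χ ∈ A, (kk χ) ^ 2 ≤ (t : ℤ) ^ 2 := by
    intro χ hχ
    have h1 : |kk χ| ≤ (t : ℤ) := by
      rw [hkk]
      calc |∑ i ∈ Finset.range e, (mult χ i : ℤ) * (-1) ^ i|
          ≤ ∑ i ∈ Finset.range e, |(mult χ i : ℤ) * (-1) ^ i| := Finset.abs_sum_le_sum_abs _ _
        _ = ∑ i ∈ Finset.range e, (mult χ i : ℤ) := by
            refine Finset.sum_congr rfl fun i _ => ?_
            rw [abs_mul, abs_pow, abs_neg, abs_one, one_pow, mul_one, Nat.abs_cast]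
        _ = (t : ℤ) := by rw [← Nat.cast_sum, hM.mAs χ hχ]
    exact sq_le_sq' (by linarith [(abs_le.mp h1).1]) (abs_le.mp h1).2
  -- the character sum
  have hsum : ∑ χ : IrrCharacter G,
      (χ : G → ℂ) w * (χ : G → ℂ) w * conj ((χ : G → ℂ) z) / (χ : G → ℂ) 1 =
      1 + (∑ χ ∈ (Set.toFinite A).toFinset, ((kk χ : ℤ) : ℂ) ^ 2) / ((1 + n * p : ℕ) : ℂ) +
        1 / (f : ℂ) := by
    rw [sum_split A B Y hT.htA hT.htB hT.htY hT.hAB hT.hAY hT.hBY]
    have e1 : ((triv G : IrrCharacter G) : G → ℂ) w * ((triv G : IrrCharacter G) : G → ℂ) w *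
        conj (((triv G : IrrCharacter G) : G → ℂ) z) / ((triv G : IrrCharacter G) : G → ℂ) 1
        = 1 := by
      simp [coe_triv]
    have eA : ∑ χ ∈ (Set.toFinite A).toFinset,
        (χ : G → ℂ) w * (χ : G → ℂ) w * conj ((χ : G → ℂ) z) / (χ : G → ℂ) 1 =
        (∑ χ ∈ (Set.toFinite A).toFinset, ((kk χ : ℤ) : ℂ) ^ 2) / ((1 + n * p : ℕ) : ℂ) := by
      rw [Finset.sum_div]
      refine Finset.sum_congr rfl fun χ hχ => ?_
      have hχA : χ ∈ A := (Set.Finite.mem_toFinset _).mp hχ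
      rw [hval χ, (hT.hA χ hχA).1, (hT.hA χ hχA).2 z hz hz1]
      simp [pow_two]
    have eB : ∑ χ ∈ (Set.toFinite B).toFinset,
        (χ : G → ℂ) w * (χ : G → ℂ) w * conj ((χ : G → ℂ) z) / (χ : G → ℂ) 1 = 0 := by
      apply Finset.sum_eq_zero
      intro χ hχ
      have hχB : χ ∈ B := (Set.Finite.mem_toFinset _).mp hχ
      rw [hval χ, hkB χ hχB]
      simp
    have eY : ∑ θ ∈ (Set.toFinite Y).toFinset,
        (θ : G → ℂ) w * (θ : G → ℂ) w * conj ((θ : G → ℂ) z) / (θ : G → ℂ) 1 = 1 / (f : ℂ) := by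
      have h1 : ∀ θ ∈ (Set.toFinite Y).toFinset,
          (θ : G → ℂ) w * (θ : G → ℂ) w * conj ((θ : G → ℂ) z) / (θ : G → ℂ) 1 =
          conj ((θ : G → ℂ) z) / (f : ℂ) := by
        intro θ hθ
        have hθY : θ ∈ Y := (Set.Finite.mem_toFinset _).mp hθ
        rw [hval θ, hT.hY1 θ hθY]
        have h2 : ((kk θ : ℤ) : ℂ) * ((kk θ : ℤ) : ℂ) = 1 := by
          rw [← pow_two]
          exact_mod_cast hkY θ hθY
        rw [h2, one_mul]
      rw [Finset.sum_congr rfl h1, ← Finset.sum_div, ← map_sum]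
      have h2 := hT.hYc z hz hz1
      rw [finsum_mem_eq_finite_toFinset_sum _ (Set.toFinite Y)] at h2
      rw [h2]
      simp
    have eZ : ∑ χ ∈ (Set.toFinite (Zset A B Y)).toFinset,
        (χ : G → ℂ) w * (χ : G → ℂ) w * conj ((χ : G → ℂ) z) / (χ : G → ℂ) 1 = 0 := by
      apply Finset.sum_eq_zero
      intro χ hχ
      have hχZ : χ ∈ Zset A B Y := (Set.Finite.mem_toFinset _).mp hχ
      rw [hT.hZ χ hχZ z hz hz1]
      simp
    rw [e1, eA, eB, eY, eZ]
    ring
  rw [hsum] at hpc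
  -- arithmetic
  obtain ⟨K, hK⟩ : ∃ K : ℤ, K = ∑ χ ∈ (Set.toFinite A).toFinset, (kk χ) ^ 2 := ⟨_, rfl⟩
  have hSA : (∑ χ ∈ (Set.toFinite A).toFinset, ((kk χ : ℤ) : ℂ) ^ 2) = (K : ℂ) := by
    rw [hK]
    push_cast
    rfl
  have hf : f = e * n + 1 := by
    have h1 := hT.hpe
    have h2 := hT.hn
    rw [← h2] at h1
    have h3 : e * (n + 1) = e * n + e := by ring
    omega
  have hvt : 1 + n * p = t * f := by
    rw [hf, ← hT.hn, hT.hpe, ← hT.hn]
    ring
  have hf0 : (f : ℂ) ≠ 0 := by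
    have h0 : f ≠ 0 := by omega
    exact_mod_cast h0
  have hv0 : ((1 + n * p : ℕ) : ℂ) ≠ 0 := by
    have : 1 + n * p ≠ 0 := by omega
    exact_mod_cast this
  have hp0 : (p : ℂ) ≠ 0 := by exact_mod_cast hp.ne_zero
  have hmainC : ((c0 : ℂ)) ^ 2 = (e : ℂ) * (((1 + n * p : ℕ) : ℂ) + (t : ℂ) + (K : ℂ)) := by
    rw [hT.hG, hSA] at hpc
    have hvt' : ((1 + n * p : ℕ) : ℂ) = (t : ℂ) * (f : ℂ) := by exact_mod_cast hvt
    have h2 : ((1 + n * p : ℕ) : ℂ) / (f : ℂ) = (t : ℂ) := by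
      rw [hvt']
      field_simp
    have h3 : (p : ℂ) * ((c0 : ℂ)) ^ 2 =
        (p : ℂ) * ((e : ℂ) * (((1 + n * p : ℕ) : ℂ) + (t : ℂ) + (K : ℂ))) := by
      calc (p : ℂ) * ((c0 : ℂ)) ^ 2 = ((p * c0 * c0 : ℕ) : ℂ) := by push_cast; ring
        _ = (((1 + n * p) * (p * e) : ℕ) : ℂ) *
            (1 + (K : ℂ) / ((1 + n * p : ℕ) : ℂ) + 1 / (f : ℂ)) := hpc
        _ = (p : ℂ) * ((e : ℂ) * (((1 + n * p : ℕ) : ℂ) + (K : ℂ) +
              ((1 + n * p : ℕ) : ℂ) / (f : ℂ))) := by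
            rw [Nat.cast_mul ((1 + n * p)) (p * e), Nat.cast_mul p e]
            field_simp
        _ = _ := by rw [h2]; ring
    exact mul_left_cancel₀ hp0 h3
  have hmain : ((c0 : ℤ)) ^ 2 = (e : ℤ) * (((1 + n * p : ℕ) : ℤ) + (t : ℤ) + K) := by
    exact_mod_cast hmainC
  have hK0 : 0 ≤ K := by
    rw [hK]
    exact Finset.sum_nonneg fun χ _ => sq_nonneg _
  have hKa : K ≤ (a : ℤ) * (t : ℤ) ^ 2 := by
    rw [hK]
    calc ∑ χ ∈ (Set.toFinite A).toFinset, (kk χ) ^ 2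
        ≤ (Set.toFinite A).toFinset.card • ((t : ℤ) ^ 2) :=
          Finset.sum_le_card_nsmul _ _ _
            (fun χ hχ => hkA χ ((Set.Finite.mem_toFinset _).mp hχ))
      _ = (a : ℤ) * (t : ℤ) ^ 2 := by
          rw [← Set.ncard_eq_toFinset_card A, hT.cA, nsmul_eq_mul]
  -- `e ∣ c0`
  have hyw : y ∈ Subgroup.centralizer ({w} : Set G) := by
    rw [Subgroup.mem_centralizer_iff]
    intro h hh
    rw [Set.mem_singleton_iff] at hh
    rw [hh, hw]
    exact pow_mul_comm' y (e / 2)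
  have hdvd : e ∣ c0 := by
    rw [hc0, ← hR.hyo, ← Nat.card_zpowers y]
    exact Subgroup.card_dvd_of_le (Subgroup.zpowers_le.mpr hyw)
  obtain ⟨k, hk⟩ := hdvd
  have hEpos : (0 : ℤ) < (e : ℤ) := by exact_mod_cast hepos
  have e1 : (e : ℤ) * (k : ℤ) ^ 2 = ((1 + n * p : ℕ) : ℤ) + (t : ℤ) + K := by
    have h1 : ((e : ℤ) * (k : ℤ)) ^ 2 = (e : ℤ) * (((1 + n * p : ℕ) : ℤ) + (t : ℤ) + K) := by
      rw [← hmain, hk]
      push_cast
      ring
    have h2 : (e : ℤ) * ((e : ℤ) * (k : ℤ) ^ 2) =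
        (e : ℤ) * (((1 + n * p : ℕ) : ℤ) + (t : ℤ) + K) := by
      rw [← h1]; ring
    exact mul_left_cancel₀ hEpos.ne' h2
  have hEa : (e : ℤ) = (a : ℤ) * (t : ℤ) + 2 := by exact_mod_cast hea
  have hPe : (p : ℤ) = (e : ℤ) * (t : ℤ) + 1 := by exact_mod_cast hT.hpe
  have hN : (n : ℤ) = (t : ℤ) - 1 := by
    have := hT.hn
    have h1 : (n : ℤ) + 1 = (t : ℤ) := by exact_mod_cast this
    linarith
  have hT2 : (2 : ℤ) ≤ (t : ℤ) := by exact_mod_cast hT.ht
  have hU : ((1 + n * p : ℕ) : ℤ) + (t : ℤ) + (a : ℤ) * (t : ℤ) ^ 2 = (e : ℤ) * (t : ℤ) ^ 2 := by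
    push_cast
    rw [hPe, hN, hEa]
    ring
  have hL : ((1 + n * p : ℕ) : ℤ) + (t : ℤ) =
      (e : ℤ) * (t : ℤ) ^ 2 - (e : ℤ) * (t : ℤ) + 2 * (t : ℤ) := by
    push_cast
    rw [hPe, hN]
    ring
  have hk0 : (0 : ℤ) ≤ (k : ℤ) := Int.natCast_nonneg k
  have hkt : (k : ℤ) = (t : ℤ) := by
    apply le_antisymm
    · by_contra hcon
      have h1 : (t : ℤ) + 1 ≤ (k : ℤ) := by
        have := not_le.mp hcon
        linarith
      have h2 : ((t : ℤ) + 1) ^ 2 ≤ (k : ℤ) ^ 2 := pow_le_pow_left₀ (by linarith) h1 2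
      have h3 : (e : ℤ) * ((t : ℤ) + 1) ^ 2 ≤ (e : ℤ) * (k : ℤ) ^ 2 :=
        mul_le_mul_of_nonneg_left h2 hEpos.le
      have h4 : (e : ℤ) * (k : ℤ) ^ 2 ≤ (e : ℤ) * (t : ℤ) ^ 2 := by
        rw [e1, ← hU]
        linarith
      have h5 : (e : ℤ) * ((t : ℤ) + 1) ^ 2 =
          (e : ℤ) * (t : ℤ) ^ 2 + (e : ℤ) * (2 * (t : ℤ) + 1) := by ring
      have h6 : 0 < (e : ℤ) * (2 * (t : ℤ) + 1) := mul_pos hEpos (by linarith)
      linarith
    · by_contra hcon
      have h1 : (k : ℤ) ≤ (t : ℤ) - 1 := by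
        have := not_le.mp hcon
        linarith
      have h2 : (k : ℤ) ^ 2 ≤ ((t : ℤ) - 1) ^ 2 := pow_le_pow_left₀ hk0 h1 2
      have h3 : (e : ℤ) * (k : ℤ) ^ 2 ≤ (e : ℤ) * ((t : ℤ) - 1) ^ 2 :=
        mul_le_mul_of_nonneg_left h2 hEpos.le
      have h4 : (e : ℤ) * (t : ℤ) ^ 2 - (e : ℤ) * (t : ℤ) + 2 * (t : ℤ) ≤
          (e : ℤ) * (k : ℤ) ^ 2 := by
        rw [e1, ← hL]
        linarith
      have h5 : (e : ℤ) * ((t : ℤ) - 1) ^ 2 =
          (e : ℤ) * (t : ℤ) ^ 2 - 2 * ((e : ℤ) * (t : ℤ)) + (e : ℤ) := by ring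
      have h6 : (e : ℤ) * 2 ≤ (e : ℤ) * (t : ℤ) := mul_le_mul_of_nonneg_left hT2 hEpos.le
      linarith
  have hkt' : k = t := by exact_mod_cast hkt
  have hKeq : K = (a : ℤ) * (t : ℤ) ^ 2 := by
    rw [hkt] at e1
    linarith
  refine ⟨?_, ?_⟩
  · rw [← hw, ← hc0, hk, hkt']
  · intro χ hχ
    rw [← hw, hval χ]
    have h1 : ∀ χ ∈ (Set.toFinite A).toFinset, (t : ℤ) ^ 2 - (kk χ) ^ 2 = 0 := by
      apply (Finset.sum_eq_zero_iff_of_nonneg
        (fun χ hχ => sub_nonneg.mpr (hkA χ ((Set.Finite.mem_toFinset _).mp hχ)))).mp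
      rw [Finset.sum_sub_distrib, Finset.sum_const, ← hK, hKeq, ← Set.ncard_eq_toFinset_card A,
        hT.cA, nsmul_eq_mul]
      ring
    have h2 := h1 χ ((Set.Finite.mem_toFinset _).mpr hχ)
    have h3 : (kk χ) ^ 2 = (t : ℤ) ^ 2 := by linarith
    exact_mod_cast h3

end Cfsg.Agent.Lib.Helper96.BRCZ
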