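import Mathlib
import Cfsg.Agent.Lib.Helper16.BRStmt
import Cfsg.Agent.Lib.CT.ClassMult
import Cfsg.Agent.Lib.Helper96.BRCZ

/-!
Piece [PI] of S0999/S4701 (helper16's split): the case `δ = -1`, `a ≥ 1`, `t ≥ 3` does not
occur.
-/

set_option autoImplicit false

namespace Cfsg.Agent.Lib.Helper96.BRPI

open Cfsg Cfsg.Agent.Lib.CT.ThirdMain Cfsg.Agent.Lib.Helper16.BRSpec
open scoped ComplexConjugate

universe u
variable {G : Type u} [Group G]

/-- splitting a sum over all irreducible characters along `{1} ⊔ A ⊔ B ⊔ Y ⊔ Z`, any target -/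
theorem sum_split' {M : Type*} [AddCommMonoid M] [Fintype (IrrCharacter G)]
    (A B Y : Set (IrrCharacter G))
    (htA : triv G ∉ A) (htB : triv G ∉ B) (htY : triv G ∉ Y) (hAB : Disjoint A B)
    (hAY : Disjoint A Y) (hBY : Disjoint B Y) (F : IrrCharacter G → M) :
    ∑ χ : IrrCharacter G, F χ = F (triv G) + ∑ χ ∈ (Set.toFinite A).toFinset, F χ +
      ∑ χ ∈ (Set.toFinite B).toFinset, F χ + ∑ χ ∈ (Set.toFinite Y).toFinset, F χ +
      ∑ χ ∈ (Set.toFinite (Zset A B Y)).toFinset, F χ := by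
  have huniv : (Set.univ : Set (IrrCharacter G)) =
      ((({triv G} ∪ A) ∪ B) ∪ Y) ∪ Zset A B Y := by
    ext χ
    simp only [Set.mem_univ, Set.mem_union, Set.mem_singleton_iff, Zset, Set.mem_ofPred_eq,
      true_iff]
    tauto
  have d1 : Disjoint ((({triv G} ∪ A) ∪ B) ∪ Y) (Zset A B Y) := by
    rw [Set.disjoint_left]
    intro χ h1 h2
    simp only [Set.mem_union, Set.mem_singleton_iff, Zset, Set.mem_ofPred_eq] at h1 h2
    tauto
  have d2 : Disjoint (({triv G} ∪ A) ∪ B) Y := by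
    rw [Set.disjoint_left]
    rintro χ ((h | h) | h) h2
    · rw [Set.mem_singleton_iff] at h
      exact htY (h ▸ h2)
    · exact Set.disjoint_left.mp hAY h h2
    · exact Set.disjoint_left.mp hBY h h2
  have d3 : Disjoint ({triv G} ∪ A) B := by
    rw [Set.disjoint_left]
    rintro χ (h | h) h2
    · rw [Set.mem_singleton_iff] at h
      exact htB (h ▸ h2)
    · exact Set.disjoint_left.mp hAB h h2
  have d4 : Disjoint ({triv G} : Set (IrrCharacter G)) A := by
    rw [Set.disjoint_singleton_left]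
    exact htA
  rw [← finsum_eq_sum_of_fintype, ← finsum_mem_univ, huniv,
    finsum_mem_union d1 (Set.toFinite _) (Set.toFinite _),
    finsum_mem_union d2 (Set.toFinite _) (Set.toFinite _),
    finsum_mem_union d3 (Set.toFinite _) (Set.toFinite _),
    finsum_mem_union d4 (Set.toFinite _) (Set.toFinite _), finsum_mem_singleton,
    finsum_mem_eq_finite_toFinset_sum _ (Set.toFinite A),
    finsum_mem_eq_finite_toFinset_sum _ (Set.toFinite B),
    finsum_mem_eq_finite_toFinset_sum _ (Set.toFinite Y),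
    finsum_mem_eq_finite_toFinset_sum _ (Set.toFinite (Zset A B Y))]

theorem card_conj_le [Fintype G] [DecidableEq G] (g h : G) :
    (Finset.univ.filter fun c : G => c * g * c⁻¹ = h).card ≤
      Nat.card (Subgroup.centralizer ({g} : Set G)) := by
  by_cases hc : IsConj g h
  · rw [Cfsg.Agent.Lib.CT.Orth.card_conj_eq_of_isConj g h hc]
  · rw [Cfsg.Agent.Lib.CT.Orth.card_conj_eq_of_not_isConj g h hc]
    exact Nat.zero_le _

/-- a product of two conjugates of the involution `w` equal to `x`: the first factor inverts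
`x`, so there are at most `|C(w)|² |C(x)|` such pairs of conjugating elements -/
theorem pair_le [Fintype G] [DecidableEq G] (w x : G) (hww : w * w = 1) :
    (Finset.univ.filter fun pr : G × G => pr.1 * w * pr.1⁻¹ * (pr.2 * w * pr.2⁻¹) = x).card ≤
      Nat.card (Subgroup.centralizer ({w} : Set G)) *
        Nat.card (Subgroup.centralizer ({w} : Set G)) *
        Nat.card (Subgroup.centralizer ({x} : Set G)) := by
  classical
  have hinv : ∀ g h : G, g * w * g⁻¹ * (h * w * h⁻¹) = x →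
      (g * w * g⁻¹) * x * (g * w * g⁻¹)⁻¹ = x⁻¹ := by
    intro g h hgh
    obtain ⟨u, hu⟩ : ∃ u : G, u = g * w * g⁻¹ := ⟨_, rfl⟩
    obtain ⟨u', hu'⟩ : ∃ u' : G, u' = h * w * h⁻¹ := ⟨_, rfl⟩
    rw [← hu, ← hu'] at hgh
    rw [← hu]
    have huu : u * u = 1 := by
      rw [hu]
      calc g * w * g⁻¹ * (g * w * g⁻¹) = g * (w * w) * g⁻¹ := by group
        _ = 1 := by rw [hww]; group
    have hu'u' : u' * u' = 1 := by
      rw [hu']
      calc h * w * h⁻¹ * (h * w * h⁻¹) = h * (w * w) * h⁻¹ := by group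
        _ = 1 := by rw [hww]; group
    have huinv : u⁻¹ = u := inv_eq_of_mul_eq_one_left huu
    have hu'inv : u'⁻¹ = u' := inv_eq_of_mul_eq_one_left hu'u'
    rw [← hgh, huinv, mul_inv_rev, huinv, hu'inv]
    calc u * (u * u') * u = (u * u) * u' * u := by group
      _ = u' * u := by rw [huu, one_mul]
  have hA : ∀ g : G, (Finset.univ.filter fun h : G => g * w * g⁻¹ * (h * w * h⁻¹) = x).card ≤
      if (g * w * g⁻¹) * x * (g * w * g⁻¹)⁻¹ = x⁻¹ then
        Nat.card (Subgroup.centralizer ({w} : Set G)) else 0 := by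
    intro g
    split_ifs with hg
    · have h1 : (Finset.univ.filter fun h : G => g * w * g⁻¹ * (h * w * h⁻¹) = x) =
          Finset.univ.filter fun h : G => h * w * h⁻¹ = (g * w * g⁻¹)⁻¹ * x := by
        ext h
        simp only [Finset.mem_filter, Finset.mem_univ, true_and]
        exact ⟨fun hh => by rw [← hh]; group, fun hh => by rw [hh]; group⟩
      rw [h1]
      exact card_conj_le w _
    · rw [Nat.le_zero, Finset.card_eq_zero, Finset.filter_eq_empty_iff]
      intro h _ hh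
      exact hg (hinv g h hh)
  have hC : (Finset.univ.filter fun g : G =>
      (g * w * g⁻¹) * x * (g * w * g⁻¹)⁻¹ = x⁻¹).card ≤
      Nat.card (Subgroup.centralizer ({x} : Set G)) *
        Nat.card (Subgroup.centralizer ({w} : Set G)) := by
    have hmaps : ((Finset.univ.filter fun g : G =>
        (g * w * g⁻¹) * x * (g * w * g⁻¹)⁻¹ = x⁻¹ : Finset G) : Set G).MapsTo
        (fun g => g * w * g⁻¹)
        ((Finset.univ.filter fun u : G => u * x * u⁻¹ = x⁻¹ : Finset G) : Set G) := by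
      intro g hg
      simp only [Finset.coe_filter, Finset.mem_univ, true_and, Set.mem_ofPred_eq] at hg ⊢
      exact hg
    rw [Finset.card_eq_sum_card_fiberwise hmaps]
    calc ∑ u ∈ Finset.univ.filter fun u : G => u * x * u⁻¹ = x⁻¹,
          ((Finset.univ.filter fun g : G =>
            (g * w * g⁻¹) * x * (g * w * g⁻¹)⁻¹ = x⁻¹).filter fun g => g * w * g⁻¹ = u).card
        ≤ ∑ _u ∈ Finset.univ.filter fun u : G => u * x * u⁻¹ = x⁻¹,
          Nat.card (Subgroup.centralizer ({w} : Set G)) := by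
          refine Finset.sum_le_sum fun u _ => ?_
          refine le_trans (Finset.card_le_card ?_) (card_conj_le w u)
          intro g hg
          simp only [Finset.mem_filter, Finset.mem_univ, true_and] at hg ⊢
          exact hg.2
      _ = (Finset.univ.filter fun u : G => u * x * u⁻¹ = x⁻¹).card *
          Nat.card (Subgroup.centralizer ({w} : Set G)) := by
          rw [Finset.sum_const, smul_eq_mul]
      _ ≤ _ := Nat.mul_le_mul_right _ (card_conj_le x x⁻¹)
  rw [BRCZ.pair_card]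
  calc ∑ g : G, (Finset.univ.filter fun h : G => g * w * g⁻¹ * (h * w * h⁻¹) = x).card
      ≤ ∑ g : G, if (g * w * g⁻¹) * x * (g * w * g⁻¹)⁻¹ = x⁻¹ then
        Nat.card (Subgroup.centralizer ({w} : Set G)) else 0 :=
        Finset.sum_le_sum fun g _ => hA g
    _ = (Finset.univ.filter fun g : G =>
          (g * w * g⁻¹) * x * (g * w * g⁻¹)⁻¹ = x⁻¹).card *
          Nat.card (Subgroup.centralizer ({w} : Set G)) := by
        rw [← Finset.sum_filter, Finset.sum_const, smul_eq_mul]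
    _ ≤ Nat.card (Subgroup.centralizer ({x} : Set G)) *
          Nat.card (Subgroup.centralizer ({w} : Set G)) *
          Nat.card (Subgroup.centralizer ({w} : Set G)) := Nat.mul_le_mul_right _ hC
    _ = _ := by ring

/-- geometric sum of a nontrivial root of unity -/
theorem geom_zero {ζ : ℂ} {e : ℕ} (h1 : ζ ^ e = 1) (h2 : ζ ≠ 1) :
    ∑ i ∈ Finset.range e, ζ ^ i = 0 := by
  have h3 := geom_sum_mul ζ e
  rw [h1, sub_self] at h3
  rcases mul_eq_zero.mp h3 with h | h
  · exact h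
  · exact absurd (sub_eq_zero.mp h) h2

/-- orthogonality of the characters of a cyclic group -/
theorem orth {ω : ℂ} {e : ℕ} (hω : IsPrimitiveRoot ω e) (i i' : ℕ) (hi : i < e) (hi' : i' < e) :
    ∑ j ∈ Finset.range e, ω ^ (i * j) * (ω⁻¹) ^ (i' * j) = if i = i' then (e : ℂ) else 0 := by
  have hω0 : ω ≠ 0 := by
    intro h
    have h1 := hω.pow_eq_one
    rw [h, zero_pow (by omega : e ≠ 0)] at h1
    exact zero_ne_one h1
  have h1 : ∀ j : ℕ, ω ^ (i * j) * (ω⁻¹) ^ (i' * j) = (ω ^ i * (ω⁻¹) ^ i') ^ j := by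
    intro j
    rw [mul_pow, ← pow_mul, ← pow_mul]
  simp_rw [h1]
  split_ifs with h
  · subst h
    have h2 : ω ^ i * (ω⁻¹) ^ i = 1 := by
      rw [← mul_pow, mul_inv_cancel₀ hω0, one_pow]
    rw [h2]
    simp
  · apply geom_zero
    · rw [mul_pow, ← pow_mul, ← pow_mul, mul_comm i e, mul_comm i' e, pow_mul, pow_mul, inv_pow,
        hω.pow_eq_one]
      simp
    · intro h2
      apply h
      have h3 : ω ^ i = ω ^ i' := by
        have h4 : ω ^ i * (ω⁻¹) ^ i' * ω ^ i' = ω ^ i' := by rw [h2, one_mul]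
        rw [mul_assoc, ← mul_pow, inv_mul_cancel₀ hω0, one_pow, mul_one] at h4
        exact h4
      exact hω.pow_inj hi hi' h3

/-- Parseval for the cyclic group of order `e` -/
theorem parseval {ω : ℂ} {e : ℕ} (hω : IsPrimitiveRoot ω e) (he : 0 < e) (c : ℕ → ℂ)
    (hc : ∀ i, conj (c i) = c i) :
    ∑ j ∈ Finset.range e, (∑ i ∈ Finset.range e, c i * ω ^ (i * j)) *
        conj (∑ i ∈ Finset.range e, c i * ω ^ (i * j)) =
      (e : ℂ) * ∑ i ∈ Finset.range e, c i * c i := by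
  have hconjω : conj ω = ω⁻¹ := by
    have h1 : ω * conj ω = 1 := by
      rw [Complex.mul_conj, Complex.normSq_eq_norm_sq, hω.norm'_eq_one he.ne']
      simp
    exact eq_inv_of_mul_eq_one_right h1
  have h1 : ∀ j, conj (∑ i ∈ Finset.range e, c i * ω ^ (i * j)) =
      ∑ i ∈ Finset.range e, c i * (ω⁻¹) ^ (i * j) := by
    intro j
    rw [map_sum]
    refine Finset.sum_congr rfl fun i _ => ?_
    rw [map_mul, map_pow, hc, hconjω]
  simp_rw [h1, Finset.sum_mul_sum]
  rw [Finset.sum_comm]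
  have h2 : ∀ i ∈ Finset.range e, ∑ j ∈ Finset.range e, ∑ i' ∈ Finset.range e,
      c i * ω ^ (i * j) * (c i' * ω⁻¹ ^ (i' * j)) = (e : ℂ) * (c i * c i) := by
    intro i hi
    rw [Finset.sum_comm]
    have h3 : ∀ i' ∈ Finset.range e, ∑ j ∈ Finset.range e,
        c i * ω ^ (i * j) * (c i' * ω⁻¹ ^ (i' * j)) =
        c i * c i' * (if i = i' then (e : ℂ) else 0) := by
      intro i' hi'
      rw [← orth hω i i' (Finset.mem_range.mp hi) (Finset.mem_range.mp hi'), Finset.mul_sum]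
      refine Finset.sum_congr rfl fun j _ => ?_
      ring
    rw [Finset.sum_congr rfl h3, Finset.sum_eq_single i]
    · rw [if_pos rfl]; ring
    · intro i' _ hne
      rw [if_neg (Ne.symm hne)]; ring
    · intro h
      exact absurd hi h
  rw [Finset.sum_congr rfl h2, ← Finset.mul_sum]

theorem arith_id (E Nn F Pp : ℂ) (hF : F = E * Nn + 1) (hP : Pp = E * (Nn + 1) + 1)
    (h1 : F ≠ 0) (h2 : Pp ≠ 0) :
    (1 + Nn * Pp) * (Pp * E) * (1 - (Nn + 1) / F + Nn / Pp) = E ^ 3 * (Nn + 1) ^ 2 * Nn := by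
  have h3 : 1 - (Nn + 1) / F + Nn / Pp = (F * Pp - (Nn + 1) * Pp + Nn * F) / (F * Pp) := by
    field_simp
  rw [h3, ← mul_div_assoc, div_eq_iff (mul_ne_zero h1 h2)]
  subst hF hP
  ring

theorem main : Cfsg.Agent.Lib.Helper16.BRStmt.CaseDFalse.{u} := by
  intro G _ _ p _ P e t n a b f A B Y hT y ω mult hR hM hCZ ha ht3
  classical
  haveI := Fintype.ofFinite G
  haveI := Cfsg.Agent.Lib.CT.Wedderburn.finite_irrCharacter G
  haveI := Fintype.ofFinite (IrrCharacter G)
  have hp : p.Prime := Fact.out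
  obtain ⟨hfe, hb, hea⟩ : f + e = p ∧ b = a * n + 1 ∧ e = a * t + 2 := by
    rcases hT.hcase with ⟨h, _⟩ | ⟨_, h⟩
    · exact absurd h (by norm_num)
    · exact h
  have he2 : 2 * (e / 2) = e := Nat.two_mul_div_two_of_even hM.heven
  have hepos : 0 < e := by have := hT.he; omega
  have hm0 : 0 < e / 2 := by omega
  have hme : e / 2 < e := by omega
  have htn : n + 1 = t := hT.hn
  have hf : f = e * n + 1 := by
    have h1 := hT.hpe
    rw [← htn] at h1
    have h3 : e * (n + 1) = e * n + e := by ring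
    omega
  have hvt : 1 + n * p = t * f := by
    rw [hf, ← htn, hT.hpe, ← htn]
    ring
  obtain ⟨w, hw⟩ : ∃ w : G, w = y ^ (e / 2) := ⟨_, rfl⟩
  have hww : w * w = 1 := by
    rw [hw, ← pow_add, ← two_mul, he2, ← hR.hyo, pow_orderOf_eq_one]
  have hc0 : Nat.card (Subgroup.centralizer ({w} : Set G)) = e * t := by
    rw [hw]; exact hCZ.cw
  have hω2 : ω ^ (e / 2) = -1 := by
    have h1 : IsPrimitiveRoot (ω ^ (e / 2)) 2 :=
      hR.hω.pow hepos (by rw [mul_comm]; exact he2.symm)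
    exact h1.eq_neg_one_of_two_right
  obtain ⟨s, hs⟩ : ∃ s : IrrCharacter G → ℕ → ℂ, ∀ χ j,
      s χ j = ∑ i ∈ Finset.range e, (mult χ i : ℂ) * ω ^ (i * j) := ⟨_, fun _ _ => rfl⟩
  have hr3 : ∀ χ : IrrCharacter G, ∀ j, 0 < j → j < e → (χ : G → ℂ) (y ^ j) = s χ j := by
    intro χ j h1 h2
    rw [hs]
    exact hR.r3 χ j h1 h2
  have hmemA : ∀ χ, χ ∈ (Set.toFinite A).toFinset ↔ χ ∈ A := fun χ => Set.Finite.mem_toFinset _
  have hmemB : ∀ χ, χ ∈ (Set.toFinite B).toFinset ↔ χ ∈ B := fun χ => Set.Finite.mem_toFinset _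
  have hmemY : ∀ χ, χ ∈ (Set.toFinite Y).toFinset ↔ χ ∈ Y := fun χ => Set.Finite.mem_toFinset _
  have hmemZ : ∀ χ, χ ∈ (Set.toFinite (Zset A B Y)).toFinset ↔ χ ∈ Zset A B Y :=
    fun χ => Set.Finite.mem_toFinset _
  have hsB : ∀ χ ∈ B, ∀ j, s χ j = 0 := by
    intro χ hχ j
    rw [hs]
    apply Finset.sum_eq_zero
    intro i hi
    rw [hM.mB χ hχ i (Finset.mem_range.mp hi)]
    simp
  have hsY : ∀ θ ∈ Y, ∀ j, s θ j = (-1) ^ j := by
    intro θ hθ j
    rw [hs, Finset.sum_eq_single (e / 2)]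
    · rw [hM.mY θ hθ _ hme, if_pos rfl, pow_mul, hω2]
      simp
    · intro i hi hne
      rw [hM.mY θ hθ i (Finset.mem_range.mp hi), if_neg hne]
      simp
    · intro h
      exact absurd (Finset.mem_range.mpr hme) h
  have hsZ : ∀ χ ∈ Zset A B Y, ∀ j, s χ j = (mdeg p χ : ℂ) := by
    intro χ hχ j
    rw [hs, Finset.sum_eq_single 0]
    · rw [(hM.mZ χ hχ).2 0 hepos, if_pos rfl]
      simp
    · intro i hi hne
      rw [(hM.mZ χ hχ).2 i (Finset.mem_range.mp hi), if_neg hne]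
      simp
    · intro h
      exact absurd (Finset.mem_range.mpr hepos) h
  have hsA0 : ∀ χ ∈ A, s χ 0 = (t : ℂ) := by
    intro χ hχ
    rw [hs]
    simp only [mul_zero, pow_zero, mul_one]
    rw [← Nat.cast_sum, hM.mAs χ hχ]
  have hsAsum : ∀ j, 0 < j → j < e →
      ∑ χ ∈ (Set.toFinite A).toFinset, s χ j = -1 - (-1) ^ j := by
    intro j hj0 hje
    simp_rw [hs]
    rw [Finset.sum_comm]
    have h1 : ∀ i ∈ Finset.range e, ∑ χ ∈ (Set.toFinite A).toFinset,
        (mult χ i : ℂ) * ω ^ (i * j) =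
        (if i = 0 ∨ i = e / 2 then (0 : ℂ) else 1) * ω ^ (i * j) := by
      intro i hi
      rw [← Finset.sum_mul]
      congr 1
      split_ifs with h
      · apply Finset.sum_eq_zero
        intro χ hχ
        have h5 := hM.mA0 χ ((hmemA χ).mp hχ)
        rcases h with h | h
        · rw [h, h5.1]; simp
        · rw [h, h5.2]; simp
      · have h2 := hM.mAu i (Finset.mem_range.mp hi) (fun h0 => h (Or.inl h0))
          (fun h0 => h (Or.inr h0))
        rw [finsum_mem_eq_finite_toFinset_sum _ (Set.toFinite A)] at h2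
        exact_mod_cast h2
    rw [Finset.sum_congr rfl h1]
    have h2 : ∀ i ∈ Finset.range e,
        (if i = 0 ∨ i = e / 2 then (0 : ℂ) else 1) * ω ^ (i * j) =
        ω ^ (i * j) - (if i = 0 then 1 else 0) - (if i = e / 2 then (-1) ^ j else 0) := by
      intro i hi
      by_cases h0 : i = 0
      · subst h0
        simp [hm0.ne]
      · by_cases h1 : i = e / 2
        · subst h1
          simp [h0, pow_mul, hω2]
        · simp [h0, h1]
    rw [Finset.sum_congr rfl h2, Finset.sum_sub_distrib, Finset.sum_sub_distrib,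
      Finset.sum_ite_eq', Finset.sum_ite_eq']
    have h3 : ∑ i ∈ Finset.range e, ω ^ (i * j) = 0 := by
      have h4 : ∀ i, ω ^ (i * j) = (ω ^ j) ^ i := fun i => by rw [mul_comm, pow_mul]
      simp_rw [h4]
      apply geom_zero
      · rw [← pow_mul, mul_comm, pow_mul, hR.hω.pow_eq_one, one_pow]
      · intro h
        have h5 := (hR.hω.pow_eq_one_iff_dvd j).mp h
        exact absurd (Nat.le_of_dvd hj0 h5) (by omega)
    rw [h3]
    simp [hepos, hme]
  -- casts
  have hfC : (f : ℂ) = (e : ℂ) * (n : ℂ) + 1 := by exact_mod_cast hf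
  have hpC : (p : ℂ) = (e : ℂ) * (t : ℂ) + 1 := by exact_mod_cast hT.hpe
  have htC : (t : ℂ) = (n : ℂ) + 1 := by exact_mod_cast htn.symm
  have hfC0 : (e : ℂ) * (n : ℂ) + 1 ≠ 0 := by
    have h0 : e * n + 1 ≠ 0 := Nat.succ_ne_zero _
    exact_mod_cast h0
  have hpC0 : (e : ℂ) * ((n : ℂ) + 1) + 1 ≠ 0 := by
    have h0 : e * (n + 1) + 1 ≠ 0 := Nat.succ_ne_zero _
    exact_mod_cast h0
  have htC0 : (n : ℂ) + 1 ≠ 0 := by
    have h0 : n + 1 ≠ 0 := Nat.succ_ne_zero _
    exact_mod_cast h0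
  -- the character sum of the class multiplication formula
  have hsumI : ∀ j, 0 < j → j < e → ∑ χ : IrrCharacter G,
      (χ : G → ℂ) w * (χ : G → ℂ) w * conj ((χ : G → ℂ) (y ^ j)) / (χ : G → ℂ) 1 =
      1 - (t : ℂ) / (f : ℂ) + (n : ℂ) / (p : ℂ) := by
    intro j hj0 hje
    rw [BRCZ.sum_split A B Y hT.htA hT.htB hT.htY hT.hAB hT.hAY hT.hBY]
    have e1 : ((triv G : IrrCharacter G) : G → ℂ) w * ((triv G : IrrCharacter G) : G → ℂ) w *
        conj (((triv G : IrrCharacter G) : G → ℂ) (y ^ j)) /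
        ((triv G : IrrCharacter G) : G → ℂ) 1 = 1 := by
      simp [coe_triv]
    have eA : ∑ χ ∈ (Set.toFinite A).toFinset,
        (χ : G → ℂ) w * (χ : G → ℂ) w * conj ((χ : G → ℂ) (y ^ j)) / (χ : G → ℂ) 1 =
        (t : ℂ) ^ 2 / ((1 + n * p : ℕ) : ℂ) * (-1 - (-1) ^ j) := by
      have h1 : ∀ χ ∈ (Set.toFinite A).toFinset,
          (χ : G → ℂ) w * (χ : G → ℂ) w * conj ((χ : G → ℂ) (y ^ j)) / (χ : G → ℂ) 1 =
          (t : ℂ) ^ 2 / ((1 + n * p : ℕ) : ℂ) * conj (s χ j) := by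
        intro χ hχ
        have hχA := (hmemA χ).mp hχ
        have h2 : (χ : G → ℂ) w * (χ : G → ℂ) w = (t : ℂ) ^ 2 := by
          rw [hw, ← pow_two]
          exact hCZ.aw χ hχA
        rw [hr3 χ j hj0 hje, (hT.hA χ hχA).1, h2]
        ring
      rw [Finset.sum_congr rfl h1, ← Finset.mul_sum, ← map_sum, hsAsum j hj0 hje]
      simp
    have eB : ∑ χ ∈ (Set.toFinite B).toFinset,
        (χ : G → ℂ) w * (χ : G → ℂ) w * conj ((χ : G → ℂ) (y ^ j)) / (χ : G → ℂ) 1 = 0 := by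
      apply Finset.sum_eq_zero
      intro χ hχ
      have hχB := (hmemB χ).mp hχ
      rw [hw, hr3 χ (e / 2) hm0 hme, hsB χ hχB]
      simp
    have eY : ∑ θ ∈ (Set.toFinite Y).toFinset,
        (θ : G → ℂ) w * (θ : G → ℂ) w * conj ((θ : G → ℂ) (y ^ j)) / (θ : G → ℂ) 1 =
        (t : ℂ) * ((-1) ^ j / (f : ℂ)) := by
      have h1 : ∀ θ ∈ (Set.toFinite Y).toFinset,
          (θ : G → ℂ) w * (θ : G → ℂ) w * conj ((θ : G → ℂ) (y ^ j)) / (θ : G → ℂ) 1 =
          (-1) ^ j / (f : ℂ) := by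
        intro θ hθ
        have hθY := (hmemY θ).mp hθ
        rw [hw, hr3 θ (e / 2) hm0 hme, hr3 θ j hj0 hje, hsY θ hθY, hsY θ hθY, hT.hY1 θ hθY]
        have h2 : ((-1 : ℂ) ^ (e / 2)) * ((-1 : ℂ) ^ (e / 2)) = 1 := by
          rw [← pow_add, ← two_mul, he2]
          exact Even.neg_one_pow hM.heven
        rw [h2, one_mul]
        simp
      rw [Finset.sum_congr rfl h1, Finset.sum_const, ← Set.ncard_eq_toFinset_card Y, hT.cY,
        nsmul_eq_mul]
    have eZ : ∑ χ ∈ (Set.toFinite (Zset A B Y)).toFinset,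
        (χ : G → ℂ) w * (χ : G → ℂ) w * conj ((χ : G → ℂ) (y ^ j)) / (χ : G → ℂ) 1 =
        (n : ℂ) / (p : ℂ) := by
      have h1 : ∀ χ ∈ (Set.toFinite (Zset A B Y)).toFinset,
          (χ : G → ℂ) w * (χ : G → ℂ) w * conj ((χ : G → ℂ) (y ^ j)) / (χ : G → ℂ) 1 =
          ((mdeg p χ ^ 2 : ℕ) : ℂ) / (p : ℂ) := by
        intro χ hχ
        have hχZ := (hmemZ χ).mp hχ
        rw [hw, hr3 χ (e / 2) hm0 hme, hr3 χ j hj0 hje, hsZ χ hχZ, hsZ χ hχZ, (hM.mZ χ hχZ).1]
        rw [Complex.conj_natCast]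
        push_cast
        by_cases hm : (mdeg p χ : ℂ) = 0
        · rw [hm]; simp
        · have hp0 : (p : ℂ) ≠ 0 := by exact_mod_cast hp.ne_zero
          field_simp
      rw [Finset.sum_congr rfl h1, ← Finset.sum_div, ← Nat.cast_sum]
      have h2 := hM.mZs
      rw [finsum_mem_eq_finite_toFinset_sum _ (Set.toFinite (Zset A B Y))] at h2
      rw [h2]
    rw [e1, eA, eB, eY, eZ]
    have hvt' : ((1 + n * p : ℕ) : ℂ) = (t : ℂ) * (f : ℂ) := by exact_mod_cast hvt
    rw [hvt', hpC, hfC, htC]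
    field_simp
    ring
  -- lower bound for the centralizer of `y ^ j`
  have hbound : ∀ j, 0 < j → j < e →
      e * n ≤ Nat.card (Subgroup.centralizer ({y ^ j} : Set G)) := by
    intro j hj0 hje
    have hpc := Cfsg.Agent.Lib.CT.ClassMult.conj_pair_count w w (y ^ j)
    rw [hsumI j hj0 hje] at hpc
    have hle := pair_le w (y ^ j) hww
    rw [hc0] at hle
    obtain ⟨N, hN⟩ : ∃ N : ℕ, N = (Finset.univ.filter fun pr : G × G =>
        pr.1 * w * pr.1⁻¹ * (pr.2 * w * pr.2⁻¹) = y ^ j).card := ⟨_, rfl⟩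
    rw [← hN] at hpc hle
    have hNC : (N : ℂ) = ((e ^ 3 * t ^ 2 * n : ℕ) : ℂ) := by
      rw [hpc, hT.hG]
      push_cast
      rw [htC]
      have hf0 : (f : ℂ) ≠ 0 := by rw [hfC]; exact hfC0
      have hp0 : (p : ℂ) ≠ 0 := by exact_mod_cast hp.ne_zero
      exact arith_id (e : ℂ) (n : ℂ) (f : ℂ) (p : ℂ) hfC (by rw [hpC, htC]) hf0 hp0
    have hN' : N = e ^ 3 * t ^ 2 * n := by exact_mod_cast hNC
    rw [hN'] at hle
    have h1 : (e * t) * (e * t) * (e * n) ≤
        (e * t) * (e * t) * Nat.card (Subgroup.centralizer ({y ^ j} : Set G)) := by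
      calc (e * t) * (e * t) * (e * n) = e ^ 3 * t ^ 2 * n := by ring
        _ ≤ _ := hle
    have htpos : 0 < t := by omega
    exact Nat.le_of_mul_le_mul_left h1 (Nat.mul_pos (Nat.mul_pos hepos htpos)
      (Nat.mul_pos hepos htpos))
  -- the centralizer order by second orthogonality
  have hcent : ∀ j, 0 < j → j < e →
      (Nat.card (Subgroup.centralizer ({y ^ j} : Set G)) : ℝ) =
        2 * (t : ℝ) + ∑ χ ∈ (Set.toFinite A).toFinset, Complex.normSq (s χ j) := by
    intro j hj0 hje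
    have h1 := Cfsg.Agent.Lib.CT.Orth.second_orthogonality_sum_of_isConj (y ^ j) (y ^ j)
      (IsConj.refl _)
    have h2 : (∑ χ : IrrCharacter G, Complex.normSq ((χ : G → ℂ) (y ^ j)) : ℝ) =
        (Nat.card (Subgroup.centralizer ({y ^ j} : Set G)) : ℝ) := by
      apply Complex.ofReal_injective
      push_cast
      rw [← h1]
      refine Finset.sum_congr rfl fun χ _ => ?_
      rw [Complex.mul_conj]
    rw [← h2, sum_split' A B Y hT.htA hT.htB hT.htY hT.hAB hT.hAY hT.hBY]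
    have e1 : Complex.normSq (((triv G : IrrCharacter G) : G → ℂ) (y ^ j)) = 1 := by
      simp [coe_triv]
    have eA : ∑ χ ∈ (Set.toFinite A).toFinset, Complex.normSq ((χ : G → ℂ) (y ^ j)) =
        ∑ χ ∈ (Set.toFinite A).toFinset, Complex.normSq (s χ j) :=
      Finset.sum_congr rfl fun χ _ => by rw [hr3 χ j hj0 hje]
    have eB : ∑ χ ∈ (Set.toFinite B).toFinset, Complex.normSq ((χ : G → ℂ) (y ^ j)) = 0 := by
      apply Finset.sum_eq_zero
      intro χ hχ
      rw [hr3 χ j hj0 hje, hsB χ ((hmemB χ).mp hχ)]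
      simp
    have eY : ∑ θ ∈ (Set.toFinite Y).toFinset, Complex.normSq ((θ : G → ℂ) (y ^ j)) =
        (t : ℝ) := by
      have h3 : ∀ θ ∈ (Set.toFinite Y).toFinset, Complex.normSq ((θ : G → ℂ) (y ^ j)) = 1 := by
        intro θ hθ
        rw [hr3 θ j hj0 hje, hsY θ ((hmemY θ).mp hθ), map_pow, Complex.normSq_neg,
          Complex.normSq_one, one_pow]
      rw [Finset.sum_congr rfl h3, Finset.sum_const, ← Set.ncard_eq_toFinset_card Y, hT.cY,
        nsmul_eq_mul, mul_one]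
    have eZ : ∑ χ ∈ (Set.toFinite (Zset A B Y)).toFinset,
        Complex.normSq ((χ : G → ℂ) (y ^ j)) = (n : ℝ) := by
      have h3 : ∀ χ ∈ (Set.toFinite (Zset A B Y)).toFinset,
          Complex.normSq ((χ : G → ℂ) (y ^ j)) = ((mdeg p χ ^ 2 : ℕ) : ℝ) := by
        intro χ hχ
        rw [hr3 χ j hj0 hje, hsZ χ ((hmemZ χ).mp hχ), Complex.normSq_natCast]
        push_cast
        ring
      rw [Finset.sum_congr rfl h3, ← Nat.cast_sum]
      have h4 := hM.mZs
      rw [finsum_mem_eq_finite_toFinset_sum _ (Set.toFinite (Zset A B Y))] at h4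
      rw [h4]
    rw [e1, eA, eB, eY, eZ]
    have h5 : (n : ℝ) + 1 = (t : ℝ) := by exact_mod_cast htn
    linarith
  -- Parseval
  have hpars : ∀ χ ∈ A, ∑ j ∈ Finset.range e, Complex.normSq (s χ j) = (e : ℝ) * (t : ℝ) := by
    intro χ hχ
    apply Complex.ofReal_injective
    push_cast
    have h1 := parseval hR.hω hepos (fun i => (mult χ i : ℂ)) (fun i => Complex.conj_natCast _)
    have h2 : ∑ i ∈ Finset.range e, (mult χ i : ℂ) * (mult χ i : ℂ) = (t : ℂ) := by
      have h3 : ∀ i ∈ Finset.range e, (mult χ i : ℂ) * (mult χ i : ℂ) = (mult χ i : ℂ) := by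
        intro i hi
        have h4 := hM.mA1 χ hχ i (Finset.mem_range.mp hi)
        have h5 : mult χ i = 0 ∨ mult χ i = 1 := by omega
        rcases h5 with h5 | h5 <;> rw [h5] <;> simp
      rw [Finset.sum_congr rfl h3, ← Nat.cast_sum, hM.mAs χ hχ]
    rw [h2] at h1
    rw [← h1]
    refine Finset.sum_congr rfl fun j _ => ?_
    rw [hs, Complex.mul_conj]
  have hq0 : ∀ χ ∈ A, Complex.normSq (s χ 0) = (t : ℝ) ^ 2 := by
    intro χ hχ
    rw [hsA0 χ hχ, Complex.normSq_natCast]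
    ring
  have hqw : ∀ χ ∈ A, Complex.normSq (s χ (e / 2)) = (t : ℝ) ^ 2 := by
    intro χ hχ
    have h1 : s χ (e / 2) = ((∑ i ∈ Finset.range e, (mult χ i : ℤ) * (-1) ^ i : ℤ) : ℂ) := by
      rw [hs]
      push_cast
      refine Finset.sum_congr rfl fun i _ => ?_
      rw [pow_mul', hω2]
    have h2 : (s χ (e / 2)) ^ 2 = (t : ℂ) ^ 2 := by
      rw [← hr3 χ (e / 2) hm0 hme]
      exact hCZ.aw χ hχ
    rw [h1] at h2 ⊢
    have h3 : (∑ i ∈ Finset.range e, (mult χ i : ℤ) * (-1) ^ i) ^ 2 = (t : ℤ) ^ 2 := by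
      exact_mod_cast h2
    rw [Complex.normSq_intCast]
    have h4 : ((∑ i ∈ Finset.range e, (mult χ i : ℤ) * (-1) ^ i : ℤ) : ℝ) ^ 2 = (t : ℝ) ^ 2 := by
      exact_mod_cast h3
    rw [← h4]
    ring
  -- summing over `j ∉ {0, e / 2}`
  obtain ⟨J, hJ⟩ : ∃ J : Finset ℕ, J = ((Finset.range e).erase 0).erase (e / 2) := ⟨_, rfl⟩
  have h0mem : 0 ∈ Finset.range e := Finset.mem_range.mpr hepos
  have hwmem : e / 2 ∈ (Finset.range e).erase 0 := by
    rw [Finset.mem_erase]
    exact ⟨hm0.ne', Finset.mem_range.mpr hme⟩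
  have hJmem : ∀ j ∈ J, 0 < j ∧ j < e := by
    intro j hj
    rw [hJ, Finset.mem_erase, Finset.mem_erase, Finset.mem_range] at hj
    exact ⟨Nat.pos_of_ne_zero hj.2.1, hj.2.2⟩
  have hJcard : J.card = e - 2 := by
    rw [hJ, Finset.card_erase_of_mem hwmem, Finset.card_erase_of_mem h0mem, Finset.card_range]
    omega
  have hJsum : ∀ χ ∈ A, ∑ j ∈ J, Complex.normSq (s χ j) =
      (e : ℝ) * (t : ℝ) - 2 * (t : ℝ) ^ 2 := by
    intro χ hχ
    rw [hJ, Finset.sum_erase_eq_sub hwmem, Finset.sum_erase_eq_sub h0mem, hpars χ hχ,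
      hq0 χ hχ, hqw χ hχ]
    ring
  have hineq : ∀ j ∈ J, (e : ℝ) * (n : ℝ) ≤
      2 * (t : ℝ) + ∑ χ ∈ (Set.toFinite A).toFinset, Complex.normSq (s χ j) := by
    intro j hj
    obtain ⟨h1, h2⟩ := hJmem j hj
    rw [← hcent j h1 h2]
    exact_mod_cast hbound j h1 h2
  have hsumJ := Finset.sum_le_sum hineq
  rw [Finset.sum_const, Finset.sum_add_distrib, Finset.sum_const, Finset.sum_comm,
    Finset.sum_congr rfl (fun χ hχ => hJsum χ ((hmemA χ).mp hχ)), Finset.sum_const,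
    ← Set.ncard_eq_toFinset_card A, hT.cA, hJcard] at hsumJ
  simp only [nsmul_eq_mul] at hsumJ
  have hE2 : ((e - 2 : ℕ) : ℝ) = (a : ℝ) * (t : ℝ) := by
    have h1 : e - 2 = a * t := by omega
    rw [h1]
    push_cast
    ring
  have hER : (e : ℝ) = (a : ℝ) * (t : ℝ) + 2 := by exact_mod_cast hea
  have hNR : (n : ℝ) = (t : ℝ) - 1 := by
    have h1 : (n : ℝ) + 1 = (t : ℝ) := by exact_mod_cast htn
    linarith
  rw [hE2, hER, hNR] at hsumJ
  have haR : (1 : ℝ) ≤ (a : ℝ) := by exact_mod_cast ha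
  have htR : (3 : ℝ) ≤ (t : ℝ) := by exact_mod_cast ht3
  have hpos : 0 < (a : ℝ) * (t : ℝ) * ((a : ℝ) * (t : ℝ) + 2) * ((t : ℝ) - 2) := by
    have h1 : 0 < (a : ℝ) := by linarith
    have h2 : 0 < (t : ℝ) := by linarith
    have h3 : 0 < (a : ℝ) * (t : ℝ) := mul_pos h1 h2
    exact mul_pos (mul_pos h3 (by linarith)) (by linarith)
  have hid : (a : ℝ) * (t : ℝ) * (2 * (t : ℝ)) +
      (a : ℝ) * (((a : ℝ) * (t : ℝ) + 2) * (t : ℝ) - 2 * (t : ℝ) ^ 2) -
      (a : ℝ) * (t : ℝ) * (((a : ℝ) * (t : ℝ) + 2) * ((t : ℝ) - 1)) =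
      -((a : ℝ) * (t : ℝ) * ((a : ℝ) * (t : ℝ) + 2) * ((t : ℝ) - 2)) := by ring
  linarith

end Cfsg.Agent.Lib.Helper96.BRPI
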