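-- helper96: abstract structure of a dihedral Sylow 2-subgroup of order ≥ 8 and its fusion.
import Mathlib
import Cfsg.Agent.S2872
import Cfsg.Agent.S1254

set_option autoImplicit false

namespace Cfsg.Agent.Lib.Helper96.Dihedral

open DihedralGroup

/-- Abstract data of a dihedral `2`-subgroup `P` (of order at least `8`) of `G`:
the central involution `z`, two reflections `s`, `t` representing the two classes of reflections,
the set `Rf` of reflections and two characters with kernels the two dihedral maximal subgroups. -/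
structure DihStr {G : Type*} [Group G] (P : Subgroup G) where
  z : G
  s : G
  t : G
  Rf : Set G
  ϕs : ↥P →* Multiplicative (ZMod 2)
  ϕt : ↥P →* Multiplicative (ZMod 2)
  z_mem : z ∈ P
  z_ne : z ≠ 1
  z_sq : z * z = 1
  z_comm : ∀ x ∈ P, x * z = z * x
  inv_cases : ∀ x ∈ P, x ≠ 1 → x * x = 1 → x = z ∨ x ∈ Rf
  rf_mem : ∀ u ∈ Rf, u ∈ P
  rf_ne : ∀ u ∈ Rf, u ≠ z
  rf_sq : ∀ u ∈ Rf, u * u = 1
  rf_ne_one : ∀ u ∈ Rf, u ≠ 1
  rf_w : ∀ u ∈ Rf, ∃ w ∈ P, w * u * w⁻¹ = u * z
  rf_conj : ∀ u ∈ Rf, (∃ x ∈ P, x * u * x⁻¹ = s) ∨ (∃ x ∈ P, x * u * x⁻¹ = t)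
  s_mem : s ∈ Rf
  t_mem : t ∈ Rf
  rf_mul : ∀ u ∈ Rf, ∀ v ∈ Rf, u * v ∉ Rf
  st_ne : ∀ x ∈ P, x * s * x⁻¹ ≠ t
  gen : ∀ x ∈ P, x ∈ Subgroup.closure ({s, t} : Set G)
  z_comm' : ∃ a ∈ P, ∃ b ∈ P, ∃ k : ℕ, z = (a * b * a⁻¹ * b⁻¹) ^ k
  ϕs_z : ϕs ⟨z, z_mem⟩ = 1
  ϕs_s : ϕs ⟨s, rf_mem s s_mem⟩ = 1
  ϕs_t : ϕs ⟨t, rf_mem t t_mem⟩ ≠ 1
  ϕt_z : ϕt ⟨z, z_mem⟩ = 1
  ϕt_t : ϕt ⟨t, rf_mem t t_mem⟩ = 1
  ϕt_s : ϕt ⟨s, rf_mem s s_mem⟩ ≠ 1

section construction

variable {m : ℕ}

/-- the parity character of rotations index -/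
noncomputable def par (h2 : 2 ∣ m) : ZMod m →+* ZMod 2 := ZMod.castHom h2 (ZMod 2)

theorem add_self_zmod2 (a : ZMod 2) : a + a = 0 := CharTwo.add_self_eq_zero a

theorem sub_zmod2 (a b : ZMod 2) : a - b = a + b := by
  rw [sub_eq_add_neg, CharTwo.neg_eq]

/-- the character `r i ↦ i mod 2`, `sr j ↦ j mod 2` -/
noncomputable def psiS (h2 : 2 ∣ m) : DihedralGroup m →* Multiplicative (ZMod 2) where
  toFun x := match x with
    | r i => Multiplicative.ofAdd (par h2 i)
    | sr j => Multiplicative.ofAdd (par h2 j)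
  map_one' := by
    show Multiplicative.ofAdd (par h2 0) = 1
    rw [map_zero]; rfl
  map_mul' := by
    rintro (i | i) (j | j)
    · show Multiplicative.ofAdd (par h2 (i + j)) = _
      rw [RingHom.map_add]; rfl
    · show Multiplicative.ofAdd (par h2 (j - i)) = Multiplicative.ofAdd (par h2 i) *
        Multiplicative.ofAdd (par h2 j)
      rw [RingHom.map_sub, sub_zmod2, add_comm]; rfl
    · show Multiplicative.ofAdd (par h2 (i + j)) = _
      rw [RingHom.map_add]; rfl
    · show Multiplicative.ofAdd (par h2 (j - i)) = Multiplicative.ofAdd (par h2 i) *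
        Multiplicative.ofAdd (par h2 j)
      rw [RingHom.map_sub, sub_zmod2, add_comm]; rfl

/-- the character `r i ↦ i mod 2`, `sr j ↦ j + 1 mod 2` -/
noncomputable def psiT (h2 : 2 ∣ m) : DihedralGroup m →* Multiplicative (ZMod 2) where
  toFun x := match x with
    | r i => Multiplicative.ofAdd (par h2 i)
    | sr j => Multiplicative.ofAdd (par h2 j + 1)
  map_one' := by
    show Multiplicative.ofAdd (par h2 0) = 1
    rw [map_zero]; rfl
  map_mul' := by
    rintro (i | i) (j | j)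
    · show Multiplicative.ofAdd (par h2 (i + j)) = _
      rw [RingHom.map_add]; rfl
    · show Multiplicative.ofAdd (par h2 (j - i) + 1) = Multiplicative.ofAdd (par h2 i) *
        Multiplicative.ofAdd (par h2 j + 1)
      rw [← ofAdd_add]; congr 1
      rw [RingHom.map_sub, sub_zmod2]; ring
    · show Multiplicative.ofAdd (par h2 (i + j) + 1) = Multiplicative.ofAdd (par h2 i + 1) *
        Multiplicative.ofAdd (par h2 j)
      rw [← ofAdd_add]; congr 1
      rw [RingHom.map_add]; ring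
    · show Multiplicative.ofAdd (par h2 (j - i)) = Multiplicative.ofAdd (par h2 i + 1) *
        Multiplicative.ofAdd (par h2 j + 1)
      rw [← ofAdd_add]; congr 1
      rw [RingHom.map_sub, sub_zmod2]
      have := add_self_zmod2 1
      linear_combination (-1 : ZMod 2) * this


theorem hh (hm2 : 2 ∣ m) : ((m / 2 : ℕ) : ZMod m) + ((m / 2 : ℕ) : ZMod m) = 0 := by
  rw [← Nat.cast_add, ← two_mul, Nat.mul_div_cancel' hm2, ZMod.natCast_self]

theorem h_ne (hm0 : m ≠ 0) (hm2 : 2 ∣ m) : ((m / 2 : ℕ) : ZMod m) ≠ 0 := by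
  rw [Ne, ZMod.natCast_eq_zero_iff]
  intro h
  have h1 : 0 < m / 2 :=
    Nat.div_pos (Nat.le_of_dvd (Nat.pos_of_ne_zero hm0) hm2) (by norm_num)
  have h2 : m / 2 < m := Nat.div_lt_self (Nat.pos_of_ne_zero hm0) (by norm_num)
  exact absurd (Nat.le_of_dvd h1 h) (not_le.mpr h2)

theorem qq (hm4 : 4 ∣ m) :
    ((m / 4 : ℕ) : ZMod m) + ((m / 4 : ℕ) : ZMod m) = ((m / 2 : ℕ) : ZMod m) := by
  rw [← Nat.cast_add]; congr 1; obtain ⟨k, rfl⟩ := hm4; omega

theorem double_zero [NeZero m] (hm2 : 2 ∣ m) (i : ZMod m) (h : i + i = 0) :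
    i = 0 ∨ i = ((m / 2 : ℕ) : ZMod m) := by
  have h1 : ((i.val + i.val : ℕ) : ZMod m) = 0 := by
    rw [Nat.cast_add, ZMod.natCast_zmod_val]; exact h
  rw [ZMod.natCast_eq_zero_iff] at h1
  have hlt := ZMod.val_lt i
  obtain ⟨c, hc⟩ := h1
  have hc2 : c < 2 := by
    by_contra hcon
    push Not at hcon
    have : m * 2 ≤ m * c := Nat.mul_le_mul_left m hcon
    omega
  interval_cases c
  · left
    have : i.val = 0 := by omega
    exact (ZMod.val_eq_zero i).mp this
  · right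
    have : i.val = m / 2 := by omega
    rw [← this, ZMod.natCast_zmod_val]

theorem par_double (h2 : 2 ∣ m) (i : ZMod m) : par h2 (i + i) = 0 := by
  rw [RingHom.map_add]; exact add_self_zmod2 _

theorem par_h (hm4 : 4 ∣ m) (h2 : 2 ∣ m) : par h2 ((m / 2 : ℕ) : ZMod m) = 0 := by
  rw [map_natCast, ZMod.natCast_eq_zero_iff]
  obtain ⟨k, rfl⟩ := hm4
  exact ⟨k, by omega⟩

end construction

section mk

variable {G : Type*} [Group G] {P : Subgroup G} {m : ℕ} (e : ↥P ≃* DihedralGroup m)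

/-- rotations -/
noncomputable def R (i : ZMod m) : G := ((e.symm (r i) : ↥P) : G)

/-- reflections -/
noncomputable def Sr (i : ZMod m) : G := ((e.symm (sr i) : ↥P) : G)

theorem R_mem (i : ZMod m) : R e i ∈ P := (e.symm (r i)).2

theorem Sr_mem (i : ZMod m) : Sr e i ∈ P := (e.symm (sr i)).2

theorem R_mul_R (i j : ZMod m) : R e i * R e j = R e (i + j) := by
  unfold R; rw [← Subgroup.coe_mul, ← map_mul, r_mul_r]

theorem R_mul_Sr (i j : ZMod m) : R e i * Sr e j = Sr e (j - i) := by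
  unfold R Sr; rw [← Subgroup.coe_mul, ← map_mul, r_mul_sr]

theorem Sr_mul_R (i j : ZMod m) : Sr e i * R e j = Sr e (i + j) := by
  unfold R Sr; rw [← Subgroup.coe_mul, ← map_mul, sr_mul_r]

theorem Sr_mul_Sr (i j : ZMod m) : Sr e i * Sr e j = R e (j - i) := by
  unfold R Sr; rw [← Subgroup.coe_mul, ← map_mul, sr_mul_sr]

theorem R_zero : R e 0 = 1 := by
  unfold R; rw [r_zero, map_one]; rfl

theorem R_inv (i : ZMod m) : (R e i)⁻¹ = R e (-i) := by
  unfold R; rw [← Subgroup.coe_inv, ← map_inv, inv_r]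

theorem Sr_inv (i : ZMod m) : (Sr e i)⁻¹ = Sr e i := by
  unfold Sr; rw [← Subgroup.coe_inv, ← map_inv, inv_sr]

theorem R_inj (i j : ZMod m) (h : R e i = R e j) : i = j := by
  have := e.symm.injective (Subtype.ext h)
  exact r.inj this

theorem Sr_inj (i j : ZMod m) (h : Sr e i = Sr e j) : i = j := by
  have := e.symm.injective (Subtype.ext h)
  exact sr.inj this

theorem R_ne_Sr (i j : ZMod m) : R e i ≠ Sr e j := by
  intro h
  have := e.symm.injective (Subtype.ext h)
  cases this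

theorem cases_mem (x : G) (hx : x ∈ P) : (∃ i, x = R e i) ∨ (∃ i, x = Sr e i) := by
  cases h : e ⟨x, hx⟩ with
  | r i =>
    left; refine ⟨i, ?_⟩
    unfold R; rw [← h, MulEquiv.symm_apply_apply]
  | sr i =>
    right; refine ⟨i, ?_⟩
    unfold Sr; rw [← h, MulEquiv.symm_apply_apply]

theorem R_one_pow (k : ℕ) : (R e 1) ^ k = R e k := by
  unfold R; rw [← Subgroup.coe_pow, ← map_pow, r_one_pow]

theorem phi_R {A : Type*} [Monoid A] (ψ : DihedralGroup m →* A) (i : ZMod m) (h : R e i ∈ P) :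
    (ψ.comp e.toMonoidHom) ⟨R e i, h⟩ = ψ (r i) := by
  have : (⟨R e i, h⟩ : ↥P) = e.symm (r i) := Subtype.ext rfl
  rw [this]
  show ψ (e (e.symm (r i))) = _
  rw [MulEquiv.apply_symm_apply]

theorem phi_Sr {A : Type*} [Monoid A] (ψ : DihedralGroup m →* A) (i : ZMod m)
    (h : Sr e i ∈ P) : (ψ.comp e.toMonoidHom) ⟨Sr e i, h⟩ = ψ (sr i) := by
  have : (⟨Sr e i, h⟩ : ↥P) = e.symm (sr i) := Subtype.ext rfl
  rw [this]
  show ψ (e (e.symm (sr i))) = _
  rw [MulEquiv.apply_symm_apply]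

/-- The dihedral structure of a subgroup isomorphic to `DihedralGroup m`, `4 ∣ m`. -/
noncomputable def mkDih [NeZero m] (hm4 : 4 ∣ m) : DihStr P :=
  have h2 : 2 ∣ m := dvd_trans (by norm_num) hm4
  have hm0 : m ≠ 0 := NeZero.ne m
  { z := R e ((m / 2 : ℕ) : ZMod m)
    s := Sr e 0
    t := Sr e 1
    Rf := Set.range (Sr e)
    ϕs := (psiS h2).comp e.toMonoidHom
    ϕt := (psiT h2).comp e.toMonoidHom
    z_mem := R_mem e _
    z_ne := by
      intro h
      rw [← R_zero e] at h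
      exact h_ne hm0 h2 (R_inj e _ _ h)
    z_sq := by rw [R_mul_R, hh h2, R_zero]
    z_comm := by
      intro x hx
      rcases cases_mem e x hx with ⟨i, rfl⟩ | ⟨i, rfl⟩
      · rw [R_mul_R, R_mul_R, add_comm]
      · rw [Sr_mul_R, R_mul_Sr]
        congr 1
        have := hh (m := m) h2
        linear_combination this
    inv_cases := by
      intro x hx hx1 hxx
      rcases cases_mem e x hx with ⟨i, rfl⟩ | ⟨i, rfl⟩
      · left
        rw [R_mul_R, ← R_zero e] at hxx
        rcases double_zero h2 i (R_inj e _ _ hxx) with h | h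
        · exact absurd (by rw [h, R_zero]) hx1
        · rw [h]
      · right; exact ⟨i, rfl⟩
    rf_mem := by rintro u ⟨i, rfl⟩; exact Sr_mem e i
    rf_ne := by rintro u ⟨i, rfl⟩ h; exact R_ne_Sr e _ _ h.symm
    rf_sq := by rintro u ⟨i, rfl⟩; rw [Sr_mul_Sr, sub_self, R_zero]
    rf_ne_one := by
      rintro u ⟨i, rfl⟩ h
      rw [← R_zero e] at h
      exact R_ne_Sr e _ _ h.symm
    rf_w := by
      rintro u ⟨j, rfl⟩
      refine ⟨R e ((m / 4 : ℕ) : ZMod m), R_mem e _, ?_⟩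
      rw [R_inv, R_mul_Sr, Sr_mul_R, Sr_mul_R]
      congr 1
      have h1 := qq (m := m) hm4
      have h3 := hh (m := m) h2
      linear_combination (-1 : ZMod m) * h1 - h3
    rf_conj := by
      rintro u ⟨j, rfl⟩
      have hj : ((j.val : ℕ) : ZMod m) = j := ZMod.natCast_zmod_val j
      rcases Nat.mod_two_eq_zero_or_one j.val with h | h
      · left
        refine ⟨R e ((j.val / 2 : ℕ) : ZMod m), R_mem e _, ?_⟩
        rw [R_inv, R_mul_Sr, Sr_mul_R]
        congr 1
        have h1 : ((j.val / 2 : ℕ) : ZMod m) + ((j.val / 2 : ℕ) : ZMod m) = j := by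
          rw [← Nat.cast_add]
          have : j.val / 2 + j.val / 2 = j.val := by omega
          rw [this, hj]
        linear_combination (-1 : ZMod m) * h1
      · right
        refine ⟨R e ((j.val / 2 : ℕ) : ZMod m), R_mem e _, ?_⟩
        rw [R_inv, R_mul_Sr, Sr_mul_R]
        congr 1
        have h1 : ((j.val / 2 : ℕ) : ZMod m) + ((j.val / 2 : ℕ) : ZMod m) + 1 = j := by
          have : j.val / 2 + j.val / 2 + 1 = j.val := by omega
          rw [← Nat.cast_add, ← Nat.cast_one (R := ZMod m), ← Nat.cast_add, this, hj]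
        linear_combination (-1 : ZMod m) * h1
    s_mem := ⟨0, rfl⟩
    t_mem := ⟨1, rfl⟩
    rf_mul := by
      rintro u ⟨i, rfl⟩ v ⟨j, rfl⟩ ⟨k, hk⟩
      rw [Sr_mul_Sr] at hk
      exact R_ne_Sr e _ _ hk.symm
    st_ne := by
      intro x hx h
      rcases cases_mem e x hx with ⟨i, rfl⟩ | ⟨i, rfl⟩
      · rw [R_inv, R_mul_Sr, Sr_mul_R] at h
        have h1 := congrArg (par h2) (Sr_inj e _ _ h)
        have h3 : (0 : ZMod m) - i + -i = -(i + i) := by ring
        rw [h3, map_neg, par_double, neg_zero, map_one] at h1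
        exact zero_ne_one h1
      · rw [Sr_inv, Sr_mul_Sr, R_mul_Sr] at h
        have h1 := congrArg (par h2) (Sr_inj e _ _ h)
        have h3 : i - ((0 : ZMod m) - i) = i + i := by ring
        rw [h3, par_double, map_one] at h1
        exact zero_ne_one h1
    gen := by
      intro x hx
      have hs : Sr e 0 ∈ Subgroup.closure ({Sr e 0, Sr e 1} : Set G) :=
        Subgroup.subset_closure (Set.mem_insert _ _)
      have ht : Sr e 1 ∈ Subgroup.closure ({Sr e 0, Sr e 1} : Set G) :=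
        Subgroup.subset_closure (Set.mem_insert_of_mem _ rfl)
      have hr1 : R e 1 ∈ Subgroup.closure ({Sr e 0, Sr e 1} : Set G) := by
        have : R e 1 = Sr e 0 * Sr e 1 := by rw [Sr_mul_Sr, sub_zero]
        rw [this]; exact Subgroup.mul_mem _ hs ht
      have hr : ∀ i : ZMod m, R e i ∈ Subgroup.closure ({Sr e 0, Sr e 1} : Set G) := by
        intro i
        rw [← ZMod.natCast_zmod_val i, ← R_one_pow]
        exact Subgroup.pow_mem _ hr1 _
      rcases cases_mem e x hx with ⟨i, rfl⟩ | ⟨i, rfl⟩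
      · exact hr i
      · have : Sr e i = Sr e 0 * R e i := by rw [Sr_mul_R, zero_add]
        rw [this]; exact Subgroup.mul_mem _ hs (hr i)
    z_comm' := by
      refine ⟨R e 1, R_mem e _, Sr e 0, Sr_mem e _, m / 4, ?_⟩
      rw [R_inv, Sr_inv, R_mul_Sr, Sr_mul_R, Sr_mul_Sr]
      have h1 : (0 : ZMod m) - ((0 : ZMod m) - 1 + -1) = ((2 : ℕ) : ZMod m) := by
        push_cast; ring
      rw [h1, ← R_one_pow e 2, ← pow_mul, R_one_pow]
      congr 2
      obtain ⟨k, rfl⟩ := hm4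
      omega
    ϕs_z := by
      rw [phi_R]
      show Multiplicative.ofAdd (par h2 _) = 1
      rw [par_h hm4 h2]; rfl
    ϕs_s := by
      rw [phi_Sr]
      show Multiplicative.ofAdd (par h2 0) = 1
      rw [map_zero]; rfl
    ϕs_t := by
      rw [phi_Sr]
      show Multiplicative.ofAdd (par h2 1) ≠ 1
      rw [map_one]
      intro h
      have : (1 : ZMod 2) = 0 := h
      exact one_ne_zero this
    ϕt_z := by
      rw [phi_R]
      show Multiplicative.ofAdd (par h2 _) = 1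
      rw [par_h hm4 h2]; rfl
    ϕt_t := by
      rw [phi_Sr]
      show Multiplicative.ofAdd (par h2 1 + 1) = 1
      rw [map_one, add_self_zmod2]; rfl
    ϕt_s := by
      rw [phi_Sr]
      show Multiplicative.ofAdd (par h2 0 + 1) ≠ 1
      rw [map_zero, zero_add]
      intro h
      have : (1 : ZMod 2) = 0 := h
      exact one_ne_zero this }

end mk

end Cfsg.Agent.Lib.Helper96.Dihedral
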