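import Mathlib
import Cfsg.Agent.Lib.Helper23.HNStmt

set_option autoImplicit false

/-!
# S1438 / CONJK (helper96): an element of prime order `p` of `M` is `M`-conjugate into any
`K ≤ M` of index prime to `p` (fixed point of `⟨x⟩` on the cosets of `K` in `M`).
-/

namespace Cfsg.Agent.Lib.Helper96.HNCONJK

universe u

open Cfsg.Agent.Lib.Helper23.HNStmt

theorem main : ConjHall.{u} := by
  intro G _ _ M K hKM x hx p hp hord hnd
  haveI : Fact p.Prime := ⟨hp⟩
  have hord' : orderOf (⟨x, hx⟩ : M) = p := by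
    rw [← hord]; exact Subgroup.orderOf_mk x hx
  have hP : IsPGroup p (Subgroup.zpowers (⟨x, hx⟩ : M)) := by
    apply IsPGroup.of_card (n := 1)
    rw [Nat.card_zpowers, hord', pow_one]
  have hcard : ¬ p ∣ Nat.card (M ⧸ K.subgroupOf M) := hnd
  obtain ⟨q, hq⟩ := hP.nonempty_fixed_point_of_prime_not_dvd_card (M ⧸ K.subgroupOf M) hcard
  induction q using QuotientGroup.induction_on with
  | H g =>
    have h1 := hq ⟨(⟨x, hx⟩ : M), Subgroup.mem_zpowers _⟩
    have h2 : (((⟨x, hx⟩ : M) * g : M) : M ⧸ K.subgroupOf M) = (g : M ⧸ K.subgroupOf M) := h1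
    rw [QuotientGroup.eq] at h2
    refine ⟨((g⁻¹ : M) : G), (g⁻¹).2, ?_⟩
    have h3 := inv_mem h2
    rw [Subgroup.mem_subgroupOf] at h3
    simpa [mul_assoc] using h3

end Cfsg.Agent.Lib.Helper96.HNCONJK
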