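import Mathlib
import Cfsg.Agent.Lib.Helper23.HNStmt
import Cfsg.Agent.Lib.Helper54.UniqueSubgroup

set_option autoImplicit false

/-!
# S1438 / CYCP (helper96): a finite commutative subgroup without `Z_p × Z_p` is cyclic.
The Sylow subgroups are commutative `p`-groups whose elements of order dividing `p` lie in one
cyclic subgroup (else `Ω_p` has order at least `p ^ 2`), hence cyclic
(`Helper54.UniqueSubgroup.isCyclic_of_comm`); a commutative Z-group is cyclic.
-/

namespace Cfsg.Agent.Lib.Helper96.HNCYCP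

universe u

open Cfsg.Agent.Lib.Helper23.HNStmt

/-- A finite commutative group all of whose Sylow subgroups are cyclic is cyclic. -/
theorem cyc_of_sylow {A : Type*} [Group A] [Finite A] (hA : ∀ a b : A, a * b = b * a)
    (h : ∀ (p : ℕ) [Fact p.Prime] (P : Sylow p A), IsCyclic P) : IsCyclic A := by
  let _ : CommGroup A := { ‹Group A› with mul_comm := hA }
  have : IsZGroup A := ⟨fun p hp P => by
    have : Fact p.Prime := ⟨hp⟩
    exact h p P⟩
  infer_instance

theorem main : CycPure.{u} := by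
  intro G _ _ X hcomm hno
  apply cyc_of_sylow (A := X) (fun a b => Subtype.ext (hcomm a a.2 b b.2))
  intro p _ P
  have hp : p.Prime := Fact.out
  apply Cfsg.Agent.Lib.Helper54.UniqueSubgroup.isCyclic_of_comm (p := p) P.isPGroup' ?_
    (fun x y => Subtype.ext (Subtype.ext (hcomm x x.1.2 y y.1.2)))
  intro g h hg hh hg1
  by_contra hnot
  -- the subgroup of elements of `X` of order dividing `p`
  let Om : Subgroup G :=
    { carrier := {a | a ∈ X ∧ a ^ p = 1}
      one_mem' := ⟨one_mem X, one_pow p⟩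
      mul_mem' := by
        intro a b ha hb
        refine ⟨mul_mem ha.1 hb.1, ?_⟩
        have hc : Commute a b := hcomm a ha.1 b hb.1
        rw [hc.mul_pow, ha.2, hb.2, one_mul]
      inv_mem' := by
        intro a ha
        exact ⟨inv_mem ha.1, by rw [inv_pow, ha.2, inv_one]⟩ }
  have hOmX : Om ≤ X := fun a ha => ha.1
  have hOmp : ∀ a ∈ Om, a ^ p = 1 := fun a ha => ha.2
  have hg0p : ((g : X) : G) ^ p = 1 := by
    have := congrArg (fun z : (P : Subgroup X) => ((z : X) : G)) hg
    simpa using this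
  have hh0p : ((h : X) : G) ^ p = 1 := by
    have := congrArg (fun z : (P : Subgroup X) => ((z : X) : G)) hh
    simpa using this
  have hg01 : ((g : X) : G) ≠ 1 := by
    intro h1
    exact hg1 (Subtype.ext (Subtype.ext h1))
  have hgOm : ((g : X) : G) ∈ Om := ⟨(g : X).2, hg0p⟩
  have hhOm : ((h : X) : G) ∈ Om := ⟨(h : X).2, hh0p⟩
  have hPOm : IsPGroup p Om := by
    intro a
    refine ⟨1, ?_⟩
    rw [pow_one]
    exact Subtype.ext (by simpa using hOmp a a.2)
  obtain ⟨k, hk⟩ := IsPGroup.iff_card.1 hPOm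
  have hog : orderOf ((g : X) : G) = p := orderOf_eq_prime hg0p hg01
  have hzle : Subgroup.zpowers ((g : X) : G) ≤ Om := by
    rw [Subgroup.zpowers_le]; exact hgOm
  have hk2 : 2 ≤ k := by
    by_contra hk2
    have hk1 : k ≤ 1 := by omega
    have hle : Nat.card Om ≤ Nat.card (Subgroup.zpowers ((g : X) : G)) := by
      rw [Nat.card_zpowers, hog, hk]
      calc p ^ k ≤ p ^ 1 := Nat.pow_le_pow_right hp.pos hk1
        _ = p := pow_one p
    have heq := Subgroup.eq_of_le_of_card_ge hzle hle
    have hmem : ((h : X) : G) ∈ Subgroup.zpowers ((g : X) : G) := by rw [heq]; exact hhOm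
    obtain ⟨i, hi⟩ := Subgroup.mem_zpowers_iff.1 hmem
    exact hnot (Subgroup.mem_zpowers_iff.2 ⟨i, Subtype.ext (Subtype.ext (by simpa using hi))⟩)
  have hdvd : p ^ 2 ∣ Nat.card Om := by
    rw [hk]; exact pow_dvd_pow p hk2
  obtain ⟨K, hK⟩ := Sylow.exists_subgroup_card_pow_prime p hdvd
  refine hno p (K.map Om.subtype) hp ?_ ?_ ?_
  · intro a ha
    obtain ⟨b, _, rfl⟩ := Subgroup.mem_map.1 ha
    exact hOmX b.2
  · intro a ha
    obtain ⟨b, _, rfl⟩ := Subgroup.mem_map.1 ha
    exact hOmp _ b.2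
  · rw [← hK]
    exact Nat.card_congr (K.equivMapOfInjective Om.subtype Om.subtype_injective).toEquiv.symm

end Cfsg.Agent.Lib.Helper96.HNCYCP
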