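import Mathlib
import Cfsg.Agent.Lib.Helper23.HNStmt
import Cfsg.Agent.Lib.Helper91.Hall

set_option autoImplicit false

/-!
# S1438 / HCONJ (helper96): Hall subgroups of equal order of a solvable subgroup `S` are
conjugate in `S` (wrap of `Helper91.Hall.hall_conj`).
-/

namespace Cfsg.Agent.Lib.Helper96.HNHCONJ

universe u

open Cfsg.Agent.Lib.Helper23.HNStmt
open scoped Pointwise

theorem main : HallConj.{u} := by
  intro G _ _ S A B hS hAS hBS hcard hcop
  haveI := hS
  have hA' : Nat.card (A.subgroupOf S) = Nat.card A :=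
    Nat.card_congr (Subgroup.subgroupOfEquivOfLe hAS).toEquiv
  have hB' : Nat.card (B.subgroupOf S) = Nat.card A := by
    rw [hcard]; exact Nat.card_congr (Subgroup.subgroupOfEquivOfLe hBS).toEquiv
  have hG : Nat.card S = Nat.card A * A.relIndex S := by
    rw [← hA']; exact (Subgroup.card_mul_index (A.subgroupOf S)).symm
  obtain ⟨g, hg⟩ := Cfsg.Agent.Lib.Helper91.Hall.hall_conj (G := S) (Nat.card A) (A.relIndex S)
    hG hcop (A.subgroupOf S) (B.subgroupOf S) hA' hB'
  refine ⟨(g : G), g.2, ?_⟩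
  ext b
  constructor
  · intro hb
    have hb' : (⟨b, hBS hb⟩ : S) ∈ B.subgroupOf S := Subgroup.mem_subgroupOf.2 hb
    rw [← hg, Subgroup.mem_smul_pointwise_iff_exists] at hb'
    obtain ⟨a, ha, hab⟩ := hb'
    refine Subgroup.mem_map.2 ⟨(a : G), Subgroup.mem_subgroupOf.1 ha, ?_⟩
    have := congrArg Subtype.val hab
    simpa using this
  · intro hb
    obtain ⟨a, ha, rfl⟩ := Subgroup.mem_map.1 hb
    have h1 : (MulAut.conj g • (⟨a, hAS ha⟩ : S)) ∈ MulAut.conj g • (A.subgroupOf S) :=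
      Subgroup.smul_mem_pointwise_smul _ _ _ (Subgroup.mem_subgroupOf.2 ha)
    rw [hg] at h1
    have h2 := Subgroup.mem_subgroupOf.1 h1
    simpa using h2

end Cfsg.Agent.Lib.Helper96.HNHCONJ
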