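import Mathlib
import Cfsg.Agent.Lib.Helper23.HNStmt

set_option autoImplicit false

/-!
# S1438 / HNU (helper96): in a nilpotent subgroup `N`, a Hall subgroup is determined by its
order.  A Hall subgroup of a finite nilpotent group is normal (normalizer condition), and a normal
Hall subgroup contains every element whose order divides its order.
-/

namespace Cfsg.Agent.Lib.Helper96.HNHNU

universe u

open Cfsg.Agent.Lib.Helper23.HNStmt

/-- A Hall subgroup of a finite nilpotent group is normal. -/
theorem hall_normal {N : Type*} [Group N] [Finite N] [Group.IsNilpotent N] (A : Subgroup N)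
    (hA : (Nat.card A).Coprime A.index) : A.Normal := by
  have key : ∀ y : N, y ∈ Subgroup.normalizer (A : Set N) → orderOf y ∣ Nat.card A → y ∈ A := by
    intro y hy hord
    haveI : (A.subgroupOf (Subgroup.normalizer (A : Set N))).Normal :=
      Subgroup.normal_in_normalizer
    have h1 := Subgroup.pow_index_mem (A.subgroupOf (Subgroup.normalizer (A : Set N)))
      (⟨y, hy⟩ : Subgroup.normalizer (A : Set N))
    have h2 : y ^ (A.relIndex (Subgroup.normalizer (A : Set N))) ∈ A := by
      have := Subgroup.mem_subgroupOf.1 h1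
      simpa [Subgroup.relIndex] using this
    have hd : A.relIndex (Subgroup.normalizer (A : Set N)) ∣ A.index :=
      Dvd.intro _ (Subgroup.relIndex_mul_index Subgroup.le_normalizer)
    have hcop : (A.relIndex (Subgroup.normalizer (A : Set N))).Coprime (orderOf y) :=
      (Nat.Coprime.coprime_dvd_left hord (hA.coprime_dvd_right hd)).symm
    obtain ⟨m, hm⟩ := exists_pow_eq_self_of_coprime hcop
    rw [← hm]; exact pow_mem h2 m
  have step : ∀ g : N, g ∈ Subgroup.normalizer
      ((Subgroup.normalizer (A : Set N) : Subgroup N) : Set N) → ∀ a ∈ A, g * a * g⁻¹ ∈ A := by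
    intro g hg a ha
    apply key
    · exact (Subgroup.mem_normalizer_iff.1 hg a).1 (Subgroup.le_normalizer ha)
    · have h1 : orderOf (g * a * g⁻¹) = orderOf a := (MulAut.conj g).orderOf_eq a
      rw [h1]
      exact Subgroup.orderOf_dvd_natCard A ha
  have hnc : NormalizerCondition N := Group.normalizerCondition_of_isNilpotent
  by_contra hn
  have hlt : Subgroup.normalizer (A : Set N) < ⊤ := by
    rw [lt_top_iff_ne_top]
    intro h
    exact hn (Subgroup.normalizer_eq_top_iff.1 h)
  have h2 := hnc _ hlt
  obtain ⟨g, hg, hgn⟩ := SetLike.exists_of_lt h2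
  apply hgn
  rw [Subgroup.mem_normalizer_iff]
  intro a
  constructor
  · intro ha
    exact step g hg a ha
  · intro ha
    have h3 := step g⁻¹ (inv_mem hg) _ ha
    have h4 : g⁻¹ * (g * a * g⁻¹) * g⁻¹⁻¹ = a := by group
    rwa [h4] at h3

theorem main : HallNilUniq.{u} := by
  intro G _ _ N A B hN hAN hBN hcard hcop
  haveI := hN
  have hA' : Nat.card (A.subgroupOf N) = Nat.card A :=
    Nat.card_congr (Subgroup.subgroupOfEquivOfLe hAN).toEquiv
  haveI hnorm : (A.subgroupOf N).Normal :=
    hall_normal (A.subgroupOf N) (by rw [hA']; exact hcop)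
  have hBA : B ≤ A := by
    intro b hb
    have h1 := Subgroup.pow_index_mem (A.subgroupOf N) (⟨b, hBN hb⟩ : N)
    have h2 : b ^ (A.relIndex N) ∈ A := by
      have := Subgroup.mem_subgroupOf.1 h1
      simpa [Subgroup.relIndex] using this
    have hord : orderOf b ∣ Nat.card A := by
      rw [hcard]
      exact Subgroup.orderOf_dvd_natCard B hb
    have hc : (A.relIndex N).Coprime (orderOf b) := (Nat.Coprime.coprime_dvd_left hord hcop).symm
    obtain ⟨m, hm⟩ := exists_pow_eq_self_of_coprime hc
    rw [← hm]; exact pow_mem h2 m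
  exact (Subgroup.eq_of_le_of_card_ge hBA (le_of_eq hcard)).symm

end Cfsg.Agent.Lib.Helper96.HNHNU
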