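import Cfsg.Agent.Lib.Helper26.J3Stmt

set_option autoImplicit false
universe u v w

namespace Cfsg.Agent.Lib.Helper96.J3ISO

open Cfsg.Agent.Lib.Helper26.J3Stmt

theorem zpow_add_val {X : Type*} [Group X] (z : X) (hz : z ^ 3 = 1) (a b : ZMod 3) :
    z ^ a.val * z ^ b.val = z ^ (a + b).val := by
  rw [← pow_add, ZMod.val_add]
  conv_lhs => rw [← Nat.mod_add_div (a.val + b.val) 3]
  rw [pow_add, pow_mul, hz, one_pow, mul_one]

/-- the multiplication of the Jacobi group in coordinates. -/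
def mulP (p q : V × ZMod 3 × SL) : V × ZMod 3 × SL :=
  (p.1 + p.2.2.1.mulVec q.1,
   p.2.1 + q.2.1 + (p.1 0 * (p.2.2.1.mulVec q.1) 1 - p.1 1 * (p.2.2.1.mulVec q.1) 0),
   p.2.2 * q.2.2)

theorem mul_law {X : Type*} [Group X] (ι : V → X) (z : X) (κ : SL →* X) (hz : z ^ 3 = 1)
    (hc : ∀ x : X, x * z = z * x)
    (hι : ∀ u v : V, ι u * ι v = ι (u + v) * z ^ (u 0 * v 1 - u 1 * v 0).val)
    (hκ : ∀ (A : SL) (u : V), κ A * ι u = ι (A.1.mulVec u) * κ A) (p q : V × ZMod 3 × SL) :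
    (ι p.1 * z ^ p.2.1.val * κ p.2.2) * (ι q.1 * z ^ q.2.1.val * κ q.2.2) =
      ι (mulP p q).1 * z ^ (mulP p q).2.1.val * κ (mulP p q).2.2 := by
  obtain ⟨u, c, A⟩ := p
  obtain ⟨u', c', A'⟩ := q
  have hzc : ∀ (n : ℕ) (x : X), x * z ^ n = z ^ n * x :=
    fun n x => ((show Commute x z from hc x).pow_right n).eq
  simp only [mulP]
  rw [map_mul, ← zpow_add_val z hz, ← zpow_add_val z hz]
  set w := A.1.mulVec u' with hw
  set d := (u 0 * w 1 - u 1 * w 0).val with hd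
  calc ι u * z ^ c.val * κ A * (ι u' * z ^ c'.val * κ A')
      = ι u * z ^ c.val * (κ A * ι u') * z ^ c'.val * κ A' := by simp only [mul_assoc]
    _ = ι u * z ^ c.val * (ι w * κ A) * z ^ c'.val * κ A' := by rw [hκ]
    _ = ι u * (z ^ c.val * ι w) * (κ A * z ^ c'.val) * κ A' := by simp only [mul_assoc]
    _ = ι u * (ι w * z ^ c.val) * (z ^ c'.val * κ A) * κ A' := by rw [← hzc, hzc c'.val]
    _ = (ι u * ι w) * z ^ c.val * z ^ c'.val * (κ A * κ A') := by simp only [mul_assoc]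
    _ = ι (u + w) * z ^ d * z ^ c.val * z ^ c'.val * (κ A * κ A') := by rw [hι]
    _ = ι (u + w) * (z ^ d * (z ^ c.val * z ^ c'.val)) * (κ A * κ A') := by simp only [mul_assoc]
    _ = ι (u + w) * (z ^ c.val * z ^ c'.val * z ^ d) * (κ A * κ A') := by rw [← hzc d]

theorem main : Cfsg.Agent.Lib.Helper26.J3Stmt.ISO.{u,v} := by
  intro X _ Y _ ⟨ι, z, κ, hb, hz, hc, hι, hκ⟩ ⟨ι', z', κ', hb', hz', hc', hι', hκ'⟩
  let EX : V × ZMod 3 × SL ≃ X := Equiv.ofBijective _ hb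
  let EY : V × ZMod 3 × SL ≃ Y := Equiv.ofBijective _ hb'
  have hEX : ∀ p q, EX p * EX q = EX (mulP p q) := fun p q => mul_law ι z κ hz hc hι hκ p q
  have hEY : ∀ p q, EY p * EY q = EY (mulP p q) := fun p q => mul_law ι' z' κ' hz' hc' hι' hκ' p q
  refine ⟨{ (EX.symm.trans EY) with map_mul' := ?_ }⟩
  intro x x'
  obtain ⟨p, rfl⟩ := EX.surjective x
  obtain ⟨q, rfl⟩ := EX.surjective x'
  show EY (EX.symm (EX p * EX q)) = EY (EX.symm (EX p)) * EY (EX.symm (EX q))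
  rw [hEX, Equiv.symm_apply_apply, Equiv.symm_apply_apply, Equiv.symm_apply_apply, hEY]

end Cfsg.Agent.Lib.Helper96.J3ISO
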