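import Mathlib
import Cfsg.Agent.Lib.Helper1.PDStmt

/-!
# S4020 / Q16 (call by helper1)

In `QuaternionGroup (2 ^ n)`, `n ≥ 2`: a cyclic subgroup of order 8 and a nonabelian subgroup of
order 8 (the image of `QuaternionGroup 2` under `a i ↦ a (2^(n-1) i)`, `xa i ↦ xa (2^(n-1) i)`).
-/

set_option autoImplicit false

namespace Cfsg.Agent.Lib.Helper96.PDQ16

open Cfsg.Agent.Lib.Helper1.PDStmt
open QuaternionGroup

/-- multiplication by `2^(m+1)`, `ZMod 4 → ZMod (2^(m+3))` -/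
noncomputable def psi (m : ℕ) : ZMod (2 * 2) →+ ZMod (2 * 2 ^ (m + 2)) :=
  ZMod.lift (2 * 2) ⟨zmultiplesHom _ ((2 ^ (m + 1) : ℤ) : ZMod (2 * 2 ^ (m + 2))), by
    rw [zmultiplesHom_apply, zsmul_eq_mul, ← Int.cast_mul, ZMod.intCast_zmod_eq_zero_iff_dvd]
    refine ⟨1, ?_⟩
    push_cast
    ring⟩

theorem psi_intCast (m : ℕ) (k : ℤ) :
    psi m (k : ZMod (2 * 2)) = ((k * 2 ^ (m + 1) : ℤ) : ZMod (2 * 2 ^ (m + 2))) := by
  unfold psi
  rw [ZMod.lift_coe]
  show (zmultiplesHom _ _) k = _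
  rw [zmultiplesHom_apply, zsmul_eq_mul, ← Int.cast_mul]

theorem psi_inj (m : ℕ) (i : ZMod (2 * 2)) (h : psi m i = 0) : i = 0 := by
  obtain ⟨k, rfl⟩ := ZMod.intCast_surjective i
  rw [psi_intCast, ZMod.intCast_zmod_eq_zero_iff_dvd] at h
  rw [ZMod.intCast_zmod_eq_zero_iff_dvd]
  have e : ((2 * 2 ^ (m + 2) : ℕ) : ℤ) = ((2 * 2 : ℕ) : ℤ) * 2 ^ (m + 1) := by
    push_cast
    ring
  rw [e] at h
  exact (mul_dvd_mul_iff_right (by positivity)).mp h

theorem psi_two (m : ℕ) :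
    psi m ((2 : ℕ) : ZMod (2 * 2)) = ((2 ^ (m + 2) : ℕ) : ZMod (2 * 2 ^ (m + 2))) := by
  have h := psi_intCast m 2
  have e : ((2 : ℤ) : ZMod (2 * 2)) = ((2 : ℕ) : ZMod (2 * 2)) := by norm_cast
  rw [e] at h
  rw [h]
  push_cast
  ring

/-- the embedding of `QuaternionGroup 2` -/
noncomputable def fmap (m : ℕ) : QuaternionGroup 2 → QuaternionGroup (2 ^ (m + 2))
  | a i => a (psi m i)
  | xa i => xa (psi m i)

theorem fmap_mul (m : ℕ) (x y : QuaternionGroup 2) :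
    fmap m (x * y) = fmap m x * fmap m y := by
  rcases x with i | i <;> rcases y with j | j
  · show fmap m (a i * a j) = a (psi m i) * a (psi m j)
    rw [a_mul_a, a_mul_a]
    show a (psi m (i + j)) = _
    rw [map_add]
  · show fmap m (a i * xa j) = a (psi m i) * xa (psi m j)
    rw [a_mul_xa, a_mul_xa]
    show xa (psi m (j - i)) = _
    rw [map_sub]
  · show fmap m (xa i * a j) = xa (psi m i) * a (psi m j)
    rw [xa_mul_a, xa_mul_a]
    show xa (psi m (i + j)) = _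
    rw [map_add]
  · show fmap m (xa i * xa j) = xa (psi m i) * xa (psi m j)
    rw [xa_mul_xa, xa_mul_xa]
    show a (psi m (((2 : ℕ) : ZMod (2 * 2)) + j - i)) = _
    rw [map_sub, map_add, psi_two]

theorem main : Q16 := by
  intro n hn
  obtain ⟨m, rfl⟩ : ∃ m, n = m + 2 := ⟨n - 2, by omega⟩
  have : NeZero (2 ^ (m + 2)) := ⟨by positivity⟩
  have hinj : Function.Injective (MonoidHom.mk' (fmap m) (fmap_mul m)) := by
    rw [injective_iff_map_eq_one]
    intro x hx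
    rcases x with i | i
    · have h1 : a (psi m i) = (1 : QuaternionGroup (2 ^ (m + 2))) := hx
      rw [QuaternionGroup.one_def] at h1
      have h2 : psi m i = 0 := QuaternionGroup.a.inj h1
      rw [psi_inj m i h2]
      rfl
    · have h1 : xa (psi m i) = (1 : QuaternionGroup (2 ^ (m + 2))) := hx
      rw [QuaternionGroup.one_def] at h1
      cases h1
  refine ⟨Subgroup.zpowers (a ((2 ^ m : ℕ) : ZMod (2 * 2 ^ (m + 2)))),
    (MonoidHom.mk' (fmap m) (fmap_mul m)).range, ?_, ?_, ?_, ?_⟩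
  · rw [Nat.card_zpowers, QuaternionGroup.orderOf_a]
    have hlt : 2 ^ m < 2 * 2 ^ (m + 2) := by
      have : 0 < 2 ^ m := by positivity
      have e : 2 * 2 ^ (m + 2) = 8 * 2 ^ m := by ring
      omega
    have hval : ((2 ^ m : ℕ) : ZMod (2 * 2 ^ (m + 2))).val = 2 ^ m :=
      ZMod.val_natCast_of_lt hlt
    rw [hval]
    have e : 2 * 2 ^ (m + 2) = 8 * 2 ^ m := by ring
    rw [e, Nat.gcd_eq_right (dvd_mul_left _ _)]
    exact Nat.mul_div_cancel _ (by positivity)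
  · rw [← Nat.card_congr (MonoidHom.ofInjective hinj).toEquiv, Nat.card_eq_fintype_card,
      QuaternionGroup.card]
  · intro x hx y hy
    obtain ⟨i, rfl⟩ := Subgroup.mem_zpowers_iff.mp hx
    obtain ⟨j, rfl⟩ := Subgroup.mem_zpowers_iff.mp hy
    exact zpow_mul_comm _ i j
  · refine ⟨_, ⟨a 1, rfl⟩, _, ⟨xa 0, rfl⟩, ?_⟩
    intro h
    rw [← map_mul, ← map_mul] at h
    have h2 := hinj h
    rw [a_mul_xa, xa_mul_a] at h2
    have h3 := QuaternionGroup.xa.inj h2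
    revert h3
    decide

end Cfsg.Agent.Lib.Helper96.PDQ16
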