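import Mathlib
import Cfsg.Prelude.Def_OddOrderLocal

set_option autoImplicit false

/-!
# S1381 / TP2B, the core (helper96): the five clauses of `Helper9.S81Stmt.TP2B` from the statement
shapes of S1364 (last clause), S1356 (three clauses) and `Helper55.S82W2.w2le`, as hypotheses.
No BG imports.
-/

namespace Cfsg.Agent.Lib.Helper96.S81TP2BCore

universe u

theorem core {G : Type u} [Group G] [Finite G] (M K U : Subgroup G)
    (hKU : Cfsg.IsSigmaDecomposition M K U) (hK1 : K ≠ ⊥)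
    (h64 : ¬ IsCyclic (Cfsg.fittingHallOf M))
    (h56 : ⁅⁅M, M⁆, ⁅M, M⁆⁆ ≤ Cfsg.fittingOf M ∧
      Cfsg.fittingOf M = (M ⊓ Subgroup.centralizer (Cfsg.fittingHallOf M : Set G)) ⊔
        Cfsg.fittingHallOf M ∧
      ((Cfsg.kappa M).Nonempty → Cfsg.fittingOf M ≤ ⁅M, M⁆))
    (hw : Cfsg.sigmaCore M ⊓ Subgroup.centralizer (K : Set G) ≤
      Cfsg.fittingHallOf M ⊓ ⁅⁅M, M⁆, ⁅M, M⁆⁆) :
    ¬ IsCyclic (Cfsg.fittingHallOf M) ∧
    ⁅⁅M, M⁆, ⁅M, M⁆⁆ ≤ Cfsg.fittingHallOf M ⊔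
      (M ⊓ Subgroup.centralizer (Cfsg.fittingHallOf M : Set G)) ∧
    Cfsg.fittingHallOf M ⊔ (M ⊓ Subgroup.centralizer (Cfsg.fittingHallOf M : Set G)) =
      Cfsg.fittingOf M ∧
    Cfsg.fittingOf M ≤ ⁅M, M⁆ ∧
    Cfsg.sigmaCore M ⊓ Subgroup.centralizer (K : Set G) ≤
      Cfsg.fittingHallOf M ⊓ ⁅⁅M, M⁆, ⁅M, M⁆⁆ := by
  obtain ⟨h1, h2, h3⟩ := h56
  have heq : Cfsg.fittingHallOf M ⊔ (M ⊓ Subgroup.centralizer (Cfsg.fittingHallOf M : Set G)) =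
      Cfsg.fittingOf M := by
    rw [h2, sup_comm]
  have hkap : (Cfsg.kappa M).Nonempty := by
    have hc : Nat.card K ≠ 1 := fun h => hK1 (Subgroup.card_eq_one.1 h)
    obtain ⟨p, hp, hpd⟩ := Nat.exists_prime_and_dvd hc
    exact ⟨p, hKU.hall.2.1 p hp hpd⟩
  refine ⟨h64, ?_, heq, h3 hkap, hw⟩
  rw [heq]
  exact h1

end Cfsg.Agent.Lib.Helper96.S81TP2BCore
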