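import Mathlib
import Cfsg.Prelude.Def_OddOrderLocal

set_option autoImplicit false

/-!
# S1382 / DNIL, the group-theoretic core (helper96): a complement `D` of `M_F` in `M_σ` embeds in
the image of `M'` in `M / M_F`, so it is nilpotent when that image is.  No BG imports.
-/

namespace Cfsg.Agent.Lib.Helper96.S82DNILCore

universe u

theorem core {G : Type u} [Group G] (M D : Subgroup G)
    (h1 : Cfsg.sigmaCore M ≤ ⁅M, M⁆)
    (h2 : Group.IsNilpotent ↥((commutator ↥M).map (QuotientGroup.mk' (Cfsg.fittingHall ↥M))))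
    (hc : Cfsg.IsComplIn (Cfsg.fittingHallOf M) D (Cfsg.sigmaCore M)) : Group.IsNilpotent ↥D := by
  obtain ⟨_, hDS, hinf, _⟩ := hc
  have hcm : (commutator ↥M).map M.subtype = ⁅M, M⁆ := by
    rw [commutator_def, Subgroup.map_commutator, ← MonoidHom.range_eq_map, Subgroup.range_subtype]
  have hDM : D ≤ M := fun d hd => by
    have h3 : d ∈ (commutator ↥M).map M.subtype := by rw [hcm]; exact h1 (hDS hd)
    obtain ⟨c, _, rfl⟩ := Subgroup.mem_map.1 h3
    exact c.2
  have hmem : ∀ d : D, (QuotientGroup.mk' (Cfsg.fittingHall ↥M)) (Subgroup.inclusion hDM d) ∈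
      (commutator ↥M).map (QuotientGroup.mk' (Cfsg.fittingHall ↥M)) := by
    intro d
    have h3 : (d : G) ∈ (commutator ↥M).map M.subtype := by rw [hcm]; exact h1 (hDS d.2)
    obtain ⟨c, hcc, hcd⟩ := Subgroup.mem_map.1 h3
    refine Subgroup.mem_map.2 ⟨c, hcc, ?_⟩
    have : c = Subgroup.inclusion hDM d := Subtype.ext hcd
    rw [this]
  let f : ↥D →* ↥((commutator ↥M).map (QuotientGroup.mk' (Cfsg.fittingHall ↥M))) :=
    MonoidHom.codRestrict ((QuotientGroup.mk' (Cfsg.fittingHall ↥M)).comp (Subgroup.inclusion hDM))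
      _ hmem
  have hker : f.ker = ⊥ := by
    rw [eq_bot_iff]
    intro d hd
    rw [MonoidHom.mem_ker] at hd
    have h3 : (QuotientGroup.mk' (Cfsg.fittingHall ↥M)) (Subgroup.inclusion hDM d) = 1 :=
      congrArg Subtype.val hd
    rw [QuotientGroup.mk'_apply, QuotientGroup.eq_one_iff] at h3
    have h4 : (d : G) ∈ Cfsg.fittingHallOf M ⊓ D :=
      ⟨Subgroup.mem_map.2 ⟨_, h3, rfl⟩, d.2⟩
    rw [hinf, Subgroup.mem_bot] at h4
    exact Subgroup.mem_bot.2 (Subtype.ext h4)
  haveI := h2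
  exact Subgroup.isNilpotent_of_ker_le_center f (by rw [hker]; exact bot_le)

end Cfsg.Agent.Lib.Helper96.S82DNILCore
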